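import Groth.Prelude.Def_Dieu
import Mathlib

/-!
# The kernel of `x ↦ 1 ⊗ x` for a surjective scalar extension, and lifts
-/

universe u v w

open TensorProduct

namespace GrothLib.DispRigid

variable {A : Type u} {B : Type v} [CommRing A] [CommRing B] (g : A →+* B) (hg : Function.Surjective g)
  {P : Type w} [AddCommGroup P] [Module A P]

/-- `1 ⊗ x` as an `A`-linear map into the underlying tensor product -/
noncomputable def inOne : P →ₗ[A] Dieu.Res g ⊗[A] P := TensorProduct.mk A (Dieu.Res g) P (Dieu.Res.mk g 1)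

include hg

theorem inOne_surjective : Function.Surjective (inOne g (P := P)) := fun t => by
  induction t using TensorProduct.induction_on with
  | zero => exact ⟨0, map_zero _⟩
  | add s t hs ht =>
    obtain ⟨a, rfl⟩ := hs
    obtain ⟨b, rfl⟩ := ht
    exact ⟨a + b, map_add _ _ _⟩
  | tmul r x =>
    obtain ⟨a, ha⟩ := hg r.val
    refine ⟨a • x, ?_⟩
    show Dieu.Res.mk g 1 ⊗ₜ[A] (a • x) = _
    rw [← TensorProduct.smul_tmul, Dieu.Res.smul_mk, mul_one, ha, Dieu.Res.mk_val]

theorem mem_of_one_tmul_eq_zero {x : P} (h : Dieu.BC.tmul g 1 x = 0) :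
    x ∈ RingHom.ker g • (⊤ : Submodule A P) := by
  let ℓ : A →ₗ[A] Dieu.Res g :=
    { toFun := fun a => Dieu.Res.mk g (g a)
      map_add' := fun a b => by rw [map_add, Dieu.Res.mk_add]
      map_smul' := fun c a => by rw [smul_eq_mul, map_mul, RingHom.id_apply, Dieu.Res.smul_mk] }
  have hker : LinearMap.ker ℓ = RingHom.ker g := rfl
  let e : (A ⧸ RingHom.ker g) ≃ₗ[A] Dieu.Res g :=
    (Submodule.quotEquivOfEq _ _ hker.symm) ≪≫ₗ ℓ.quotKerEquivOfSurjective fun r => hg r
  have h' : (e.symm.toLinearMap.rTensor P) (Dieu.Res.mk g 1 ⊗ₜ[A] x) = 0 := by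
    rw [show Dieu.Res.mk g 1 ⊗ₜ[A] x = (0 : Dieu.Res g ⊗[A] P) from h, map_zero]
  have he : e.symm (Dieu.Res.mk g 1) = Ideal.Quotient.mk (RingHom.ker g) 1 := by
    rw [LinearEquiv.symm_apply_eq]
    exact congrArg (Dieu.Res.mk g) (map_one g).symm
  rw [LinearMap.rTensor_tmul, LinearEquiv.coe_coe, he] at h'
  have h2 := congrArg (TensorProduct.quotTensorEquivQuotSMul P (RingHom.ker g)) h'
  rw [map_zero, TensorProduct.quotTensorEquivQuotSMul_mk_tmul, one_smul] at h2
  exact (Submodule.Quotient.mk_eq_zero _).1 h2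

/-- a linear map between scalar extensions lifts, for a projective source -/
theorem exists_lift [Module.Projective A P] {P' : Type*} [AddCommGroup P'] [Module A P']
    (χ : Dieu.BC g P →ₗ[B] Dieu.BC g P') : ∃ ψ : P →ₗ[A] P', Dieu.BC.map g ψ = χ := by
  have hsmul : ∀ (a : A) (t : Dieu.Res g ⊗[A] P'), (a • t : Dieu.Res g ⊗[A] P') = (g a • (show Dieu.BC g P' from t) : Dieu.BC g P') := fun a t => by
    rw [Dieu.BC.smul_def]
    induction t using TensorProduct.induction_on with
    | zero => simp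
    | add s t hs ht => rw [smul_add, hs, ht]; exact (map_add _ _ _).symm
    | tmul r x => rw [TensorProduct.smul_tmul']; rfl
  let h : P →ₗ[A] Dieu.Res g ⊗[A] P' :=
    { toFun := fun x => χ (Dieu.BC.ι g P x)
      map_add' := fun a b => by rw [map_add, map_add]; rfl
      map_smul' := fun a x => by
        rw [map_smulₛₗ (Dieu.BC.ι g P), map_smul]
        exact (hsmul a _).symm }
  obtain ⟨ψ, hψ⟩ := Module.projective_lifting_property (inOne g) h (inOne_surjective g hg)
  refine ⟨ψ, Dieu.BC.ext g fun x => ?_⟩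
  rw [Dieu.BC.map_tmul]
  exact LinearMap.congr_fun hψ x

end GrothLib.DispRigid
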