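import Groth.Prelude.Def_Dieu
import Groth.Prelude.Def_W4c1extbt610Disp
import Groth.Agent.S14855
import Mathlib

/-!
# Ranks of Frobenius twists over Witt vectors
-/

universe u v w

open TensorProduct

namespace GrothLib.DispRigid

section BC

variable {A B : Type u} [CommRing A] [CommRing B] [Algebra A B] {P : Type v} [AddCommGroup P] [Module A P]

/-- `Res (algebraMap A B)` is `B` -/
noncomputable def resEquiv : Dieu.Res (algebraMap A B) ≃ₗ[A] B where
  toFun t := t.val
  invFun b := Dieu.Res.mk _ b
  left_inv _ := rfl
  right_inv _ := rfl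
  map_add' _ _ := rfl
  map_smul' a t := by
    rw [Dieu.Res.val_smul, RingHom.id_apply, Algebra.smul_def]

/-- `Dieu.BC` is the base change -/
noncomputable def bcEquiv : Dieu.BC (algebraMap A B) P ≃ₗ[B] B ⊗[A] P where
  toFun z := TensorProduct.congr resEquiv (LinearEquiv.refl A P) z
  invFun z := (TensorProduct.congr (resEquiv (A := A) (B := B)) (LinearEquiv.refl A P)).symm z
  left_inv z := LinearEquiv.symm_apply_apply _ z
  right_inv z := LinearEquiv.apply_symm_apply _ z
  map_add' x y := map_add _ x y
  map_smul' c z := by
    have key : ∀ w : Dieu.Res (algebraMap A B) ⊗[A] P,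
        TensorProduct.congr resEquiv (LinearEquiv.refl A P) ((Dieu.Res.mulLeft (algebraMap A B) c).rTensor P w)
          = c • TensorProduct.congr resEquiv (LinearEquiv.refl A P) w := fun w => by
      induction w using TensorProduct.induction_on with
      | zero => rw [map_zero, map_zero, smul_zero]
      | tmul t x =>
        rw [LinearMap.rTensor_tmul, TensorProduct.congr_tmul, TensorProduct.congr_tmul, TensorProduct.smul_tmul']
        rfl
      | add z₁ z₂ h₁ h₂ => rw [map_add, map_add, map_add, h₁, h₂, smul_add]
    exact key z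

theorem finite_BC' [Module.Finite A P] : Module.Finite B (Dieu.BC (algebraMap A B) P) :=
  Module.Finite.equiv (bcEquiv (A := A) (B := B) (P := P)).symm

theorem projective_BC' [Module.Projective A P] : Module.Projective B (Dieu.BC (algebraMap A B) P) :=
  Module.Projective.of_equiv (bcEquiv (A := A) (B := B) (P := P)).symm

theorem rankAtStalk_BC' [Module.Finite A P] [Module.Projective A P] (q : PrimeSpectrum B) :
    Module.rankAtStalk (Dieu.BC (algebraMap A B) P) q = Module.rankAtStalk P (PrimeSpectrum.comap (algebraMap A B) q) := by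
  rw [Module.rankAtStalk_eq_of_equiv (bcEquiv (A := A) (B := B) (P := P)), Module.rankAtStalk_baseChange]

end BC

section RingHom

variable {A B : Type u} [CommRing A] [CommRing B] (g : A →+* B) {P : Type v} [AddCommGroup P] [Module A P]

theorem finite_BC [Module.Finite A P] : Module.Finite B (Dieu.BC g P) :=
  @finite_BC' A B _ _ g.toAlgebra P _ _ _

theorem projective_BC [Module.Projective A P] : Module.Projective B (Dieu.BC g P) :=
  @projective_BC' A B _ _ g.toAlgebra P _ _ _

theorem rankAtStalk_BC [Module.Finite A P] [Module.Projective A P] (q : PrimeSpectrum B) :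
    Module.rankAtStalk (Dieu.BC g P) q = Module.rankAtStalk P (PrimeSpectrum.comap g q) :=
  @rankAtStalk_BC' A B _ _ g.toAlgebra P _ _ _ _ q

end RingHom

/-- a surjection between finite projective modules of the same rank at maximal ideals is injective -/
theorem injective_of_surjective_of_rank {A : Type u} [CommRing A] {M : Type v} {N : Type w}
    [AddCommGroup M] [Module A M] [AddCommGroup N] [Module A N]
    [Module.Finite A M] [Module.Projective A M] [Module.Finite A N] [Module.Projective A N]
    (f : M →ₗ[A] N) (hf : Function.Surjective f)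
    (hr : ∀ q : PrimeSpectrum A, q.asIdeal.IsMaximal → Module.rankAtStalk M q = Module.rankAtStalk N q) :
    Function.Injective f := by
  obtain ⟨s, hs⟩ := Module.projective_lifting_property f LinearMap.id hf
  have hs' : ∀ y, f (s y) = y := fun y => LinearMap.congr_fun hs y
  let e : M ≃ₗ[A] N × LinearMap.ker f :=
    { toFun := fun x => (f x, ⟨x - s (f x), by rw [LinearMap.mem_ker, map_sub, hs', sub_self]⟩)
      invFun := fun z => s z.1 + z.2.1
      left_inv := fun x => add_sub_cancel _ _
      right_inv := fun z => by
        have hz : f (s z.1 + z.2.1) = z.1 := by rw [map_add, hs', LinearMap.mem_ker.1 z.2.2, add_zero]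
        ext1
        · exact hz
        · exact Subtype.ext (by simp only [hz]; abel)
      map_add' := fun x y => by ext <;> simp [map_add]; abel
      map_smul' := fun c x => by ext <;> simp [smul_sub] }
  haveI : Module.Finite A (LinearMap.ker f) :=
    Module.Finite.of_surjective ((LinearMap.snd A N (LinearMap.ker f)).comp e.toLinearMap)
      (fun k => ⟨e.symm (0, k), congrArg Prod.snd (e.apply_symm_apply (0, k))⟩)
  haveI : Module.Projective A (LinearMap.ker f) :=
    Module.Projective.of_split ((e.symm.toLinearMap).comp (LinearMap.inr A N (LinearMap.ker f)))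
      ((LinearMap.snd A N (LinearMap.ker f)).comp e.toLinearMap)
      (LinearMap.ext fun k => congrArg Prod.snd (e.apply_symm_apply (0, k)))
  have h0 : Module.rankAtStalk (R := A) (LinearMap.ker f) = 0 := by
    funext q
    obtain ⟨m, hm, hle⟩ := Ideal.exists_le_maximal q.asIdeal q.isPrime.ne_top
    have h1 : Module.rankAtStalk (LinearMap.ker f) q = Module.rankAtStalk (LinearMap.ker f) ⟨m, hm.isPrime⟩ :=
      Module.rankAtStalk_eq_of_le_of_finite_of_flat _ (p := q) (q := ⟨m, hm.isPrime⟩) hle
    have h2 := hr ⟨m, hm.isPrime⟩ hm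
    rw [Module.rankAtStalk_eq_of_equiv e, Module.rankAtStalk_prod] at h2
    rw [Pi.zero_apply, h1]
    simp only [Pi.add_apply] at h2
    omega
  haveI : Subsingleton (LinearMap.ker f) := Module.rankAtStalk_eq_zero_iff_subsingleton.1 h0
  exact LinearMap.ker_eq_bot.1 (Submodule.eq_bot_of_subsingleton)

section Witt

variable {p : ℕ} [Fact p.Prime] {R : Type u} [CommRing R]

theorem isAdicComplete_span_p (hp : IsNilpotent (p : R)) : IsAdicComplete (Ideal.span {(p : R)}) R := by
  obtain ⟨N, hN⟩ := hp
  have h0 : ∀ n, N ≤ n → (Ideal.span {(p : R)}) ^ n • (⊤ : Submodule R R) = ⊥ := fun n hn => by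
    rw [Ideal.span_singleton_pow, pow_eq_zero_of_le hn hN, Ideal.span_singleton_zero, Submodule.bot_smul]
  refine { haus' := fun x hx => ?_, prec' := fun f hf => ⟨f N, fun n => ?_⟩ }
  · have h := hx N
    rw [h0 N le_rfl, SModEq.bot] at h
    exact h
  · rcases le_total n N with h | h
    · exact hf h
    · have h' := hf h
      rw [h0 N le_rfl, SModEq.bot] at h'
      rw [h']

theorem ker_constantCoeff_le_of_isMaximal (hp : IsNilpotent (p : R)) (m : Ideal (WittVector p R)) [hm : m.IsMaximal] :
    RingHom.ker (WittVector.constantCoeff : WittVector p R →+* R) ≤ m := by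
  haveI := isAdicComplete_span_p hp
  haveI := (Groth.Agent.S14855.result p R).2
  exact (IsAdicComplete.le_jacobson_bot _).trans (sInf_le ⟨bot_le, hm⟩)

theorem comap_frobenius_eq (hp : IsNilpotent (p : R)) (q : PrimeSpectrum (WittVector p R)) (hq : q.asIdeal.IsMaximal) :
    PrimeSpectrum.comap (WittVector.frobenius : WittVector p R →+* WittVector p R) q = q := by
  let c : WittVector p R →+* R := WittVector.constantCoeff
  have hker : RingHom.ker c ≤ q.asIdeal := ker_constantCoeff_le_of_isMaximal hp q.asIdeal
  have hsurj : Function.Surjective c := WittVector.constantCoeff_surjective p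
  set n := q.asIdeal.map c
  have hq' : n.comap c = q.asIdeal := by
    rw [Ideal.comap_map_of_surjective _ hsurj, ← RingHom.ker_eq_comap_bot, sup_eq_left.2 hker]
  haveI : n.IsMaximal := Ideal.map_eq_top_or_isMaximal_of_surjective c hsurj hq |>.resolve_left fun h => by
    apply q.isPrime.ne_top
    rw [← hq']
    show Ideal.comap c n = ⊤
    rw [show n = ⊤ from h, Ideal.comap_top]
  have hpn : (p : R) ∈ n := by
    obtain ⟨N, hN⟩ := hp
    exact (Ideal.IsMaximal.isPrime ‹n.IsMaximal›).mem_of_pow_mem N (hN ▸ n.zero_mem)
  refine PrimeSpectrum.ext (Ideal.ext fun a => ?_)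
  show WittVector.frobenius a ∈ q.asIdeal ↔ a ∈ q.asIdeal
  rw [← hq', Ideal.mem_comap, Ideal.mem_comap]
  have hd : c (WittVector.frobenius a) - c a ^ p ∈ n := by
    have h := WittVector.ghostComponent_frobenius 0 a
    have h1 : c (WittVector.frobenius a) = c a ^ p + (p : R) * a.coeff 1 := by
      have e0 : ∀ x : WittVector p R, WittVector.ghostComponent 0 x = c x := fun x => by
        simp [WittVector.ghostComponent_apply, wittPolynomial_eq_sum_C_mul_X_pow, c]
      rw [← e0, h, WittVector.ghostComponent_apply, wittPolynomial_eq_sum_C_mul_X_pow]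
      simp [Finset.sum_range_succ, c]
    rw [h1, add_sub_cancel_left]
    exact n.mul_mem_right _ hpn
  constructor
  · intro h
    exact (Ideal.IsMaximal.isPrime ‹n.IsMaximal›).mem_of_pow_mem p (by simpa using n.sub_mem h hd)
  · intro h
    simpa using n.add_mem hd (n.pow_mem_of_mem h p (Fact.out : p.Prime).pos)

theorem rankAtStalk_BC_frobenius (hp : IsNilpotent (p : R)) {P : Type v} [AddCommGroup P]
    [Module (WittVector p R) P] [Module.Finite (WittVector p R) P] [Module.Projective (WittVector p R) P]
    (q : PrimeSpectrum (WittVector p R)) (hq : q.asIdeal.IsMaximal) :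
    Module.rankAtStalk (Dieu.BC (WittVector.frobenius : WittVector p R →+* WittVector p R) P) q
      = Module.rankAtStalk P q := by
  rw [rankAtStalk_BC, comap_frobenius_eq hp q hq]

end Witt

end GrothLib.DispRigid
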