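import Groth.Agent.Lib.WittNil.Lift
import Groth.Prelude.Def_W4c1extbt610Disp
import Mathlib

/-!
# Witt vectors with components in an ideal
-/

universe u

open WittVector

namespace GrothLib.DispRigid

variable {p : ℕ} [hp : Fact p.Prime] {S : Type u} [CommRing S]

/-- `W(K)`: Witt vectors with components in `K` -/
noncomputable def WK (p : ℕ) [Fact p.Prime] (K : Ideal S) : Ideal (WittVector p S) :=
  RingHom.ker (WittVector.map (Ideal.Quotient.mk K))

theorem mem_WK {K : Ideal S} {x : WittVector p S} : x ∈ WK p K ↔ ∀ n, x.coeff n ∈ K := by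
  rw [WK, RingHom.mem_ker, WittVector.ext_iff]
  simp [WittVector.map_coeff, Ideal.Quotient.eq_zero_iff_mem]

theorem WK_mono {K K' : Ideal S} (h : K ≤ K') : WK p K ≤ WK p K' := fun _ hx =>
  mem_WK.2 fun n => h (mem_WK.1 hx n)

theorem WK_bot : WK p (⊥ : Ideal S) = ⊥ := by
  refine eq_bot_iff.2 fun x hx => ?_
  rw [Ideal.mem_bot, WittVector.ext_iff]
  exact fun n => by simpa using mem_WK.1 hx n

theorem eq_teich_add (x : WittVector p S) :
    x = teichmuller p (x.coeff 0) + verschiebung (x.shift 1) := by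
  ext n
  rw [coeff_add_of_disjoint]
  · cases n with
    | zero => simp [teichmuller_coeff_zero, verschiebung_coeff_zero]
    | succ n =>
      rw [teichmuller_coeff_pos _ _ _ n.succ_pos, zero_add, verschiebung_coeff_succ, WittVector.shift_coeff]
      congr 1
      omega
  · intro m
    cases m with
    | zero => exact Or.inr (verschiebung_coeff_zero _)
    | succ m => exact Or.inl (teichmuller_coeff_pos _ _ _ m.succ_pos)

theorem shift_teich_add (a : S) (η : WittVector p S) :
    (teichmuller p a + verschiebung η).shift 1 = η := by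
  ext n
  rw [WittVector.shift_coeff, coeff_add_of_disjoint]
  · rw [teichmuller_coeff_pos _ _ _ (by omega), zero_add, show 1 + n = n.succ by omega,
      verschiebung_coeff_succ]
  · intro m
    cases m with
    | zero => exact Or.inr (verschiebung_coeff_zero _)
    | succ m => exact Or.inl (teichmuller_coeff_pos _ _ _ m.succ_pos)

theorem shift_verschiebung (η : WittVector p S) : (verschiebung η).shift 1 = η := by
  ext n
  rw [WittVector.shift_coeff, show 1 + n = n.succ by omega, verschiebung_coeff_succ]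

theorem shift_mem_WK {K : Ideal S} {x : WittVector p S} (hx : x ∈ WK p K) : x.shift 1 ∈ WK p K :=
  mem_WK.2 fun n => by rw [WittVector.shift_coeff]; exact mem_WK.1 hx _

theorem verschiebung_mem_WK {K : Ideal S} {x : WittVector p S} (hx : x ∈ WK p K) :
    verschiebung x ∈ WK p K :=
  mem_WK.2 fun n => by
    cases n with
    | zero => rw [verschiebung_coeff_zero]; exact K.zero_mem
    | succ n => rw [verschiebung_coeff_succ]; exact mem_WK.1 hx n

theorem coeff_zero_eq_zero_of_mem_IV {x : WittVector p S} (hx : x ∈ W4c1extbt610.IV p S) :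
    x.coeff 0 = 0 := by
  have hle : W4c1extbt610.IV p S ≤ RingHom.ker (constantCoeff : WittVector p S →+* S) := by
    refine Ideal.span_le.2 ?_
    rintro _ ⟨w, rfl⟩
    exact verschiebung_coeff_zero w
  exact hle hx

theorem eq_verschiebung_shift {x : WittVector p S} (hx : x.coeff 0 = 0) :
    verschiebung (x.shift 1) = x := by
  conv_rhs => rw [eq_teich_add x, hx, teichmuller_zero, zero_add]

section Small

variable {J J' : Ideal S} (hJJ : J * J ≤ J') (hpJ : Ideal.span {(p : S)} * J ≤ J')

include hJJ hpJ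

theorem next_le : WittNil.next p J ≤ J' := by
  refine sup_le (Ideal.span_le.2 ?_) hpJ
  rintro _ ⟨a, ha, rfl⟩
  refine hJJ ?_
  show a ^ p ∈ J * J
  rw [← Nat.sub_add_cancel hp.out.two_le, pow_add, pow_two]
  exact Ideal.mul_mem_left _ _ (Ideal.mul_mem_mul ha ha)

theorem frobenius_mem {x : WittVector p S} (hx : x ∈ WK p J) : frobenius x ∈ WK p J' :=
  mem_WK.2 fun n => next_le hJJ hpJ (WittNil.coeff_frobenius_mem p J x (mem_WK.1 hx) n)

theorem mul_natCast_mem {x : WittVector p S} (hx : x ∈ WK p J) : x * (p : WittVector p S) ∈ WK p J' := by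
  rw [← frobenius_verschiebung]
  exact frobenius_mem hJJ hpJ (verschiebung_mem_WK hx)

theorem mul_mem_of_mem_IV_sup {c x : WittVector p S}
    (hc : c ∈ W4c1extbt610.IV p S ⊔ Ideal.span {(p : WittVector p S)}) (hx : x ∈ WK p J) :
    c * x ∈ WK p J' := by
  have hle : W4c1extbt610.IV p S ⊔ Ideal.span {(p : WittVector p S)} ≤
      ((WK p J').restrictScalars (WittVector p S)).comap (LinearMap.mulRight (WittVector p S) x) := by
    refine sup_le (Ideal.span_le.2 ?_) (Ideal.span_le.2 ?_)
    · rintro _ ⟨u, rfl⟩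
      show verschiebung u * x ∈ WK p J'
      rw [← verschiebung_mul_frobenius]
      refine verschiebung_mem_WK ((WK p J').mul_mem_left u (frobenius_mem hJJ hpJ hx))
    · rintro _ rfl
      show (p : WittVector p S) * x ∈ WK p J'
      rw [mul_comm]
      exact mul_natCast_mem hJJ hpJ hx
  exact hle hc

omit hpJ in
theorem map_teich_add {a b : S} (ha : a ∈ J) (hb : b ∈ J) :
    WittVector.map (Ideal.Quotient.mk J') (teichmuller p (a + b)) =
      WittVector.map (Ideal.Quotient.mk J') (teichmuller p a + teichmuller p b) := by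
  let X : TrivSqZeroExt ℤ (ℤ × ℤ) := TrivSqZeroExt.inr (1, 0)
  let Y : TrivSqZeroExt ℤ (ℤ × ℤ) := TrivSqZeroExt.inr (0, 1)
  -- to the rational model
  let ι : TrivSqZeroExt ℤ (ℤ × ℤ) →+* TrivSqZeroExt ℚ (ℚ × ℚ) :=
    { toFun := fun z => TrivSqZeroExt.inl (z.fst : ℚ) + TrivSqZeroExt.inr ((z.snd.1 : ℚ), (z.snd.2 : ℚ))
      map_one' := by ext <;> simp
      map_mul' := fun z w => by ext <;> simp [mul_comm]
      map_zero' := by ext <;> simp
      map_add' := fun z w => by ext <;> simp }
  have hι : ∀ z, ι z = TrivSqZeroExt.inl (z.fst : ℚ) + TrivSqZeroExt.inr ((z.snd.1 : ℚ), (z.snd.2 : ℚ)) := fun z => rfl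
  have hinj : Function.Injective ι := fun z w h => by
    rw [hι, hι] at h
    have h1 := congrArg TrivSqZeroExt.fst h
    have h2 := congrArg TrivSqZeroExt.snd h
    simp at h1 h2
    ext
    · exact h1
    · exact h2.1
    · exact h2.2
  haveI : Invertible (p : (TrivSqZeroExt ℚ (ℚ × ℚ))) := by
    haveI : Invertible (p : ℚ) := invertibleOfNonzero (Nat.cast_ne_zero.2 hp.out.ne_zero)
    exact (Invertible.map (algebraMap ℚ (TrivSqZeroExt ℚ (ℚ × ℚ))) (p : ℚ)).copy _ (by simp)
  have key : teichmuller p (X + Y) = teichmuller p X + teichmuller p Y := by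
    refine WittVector.map_injective (p := p) ι hinj ?_
    refine (WittVector.ghostMap.bijective_of_invertible p (TrivSqZeroExt ℚ (ℚ × ℚ))).1 (funext fun n => ?_)
    simp only [map_add, WittVector.map_teichmuller, WittVector.ghostMap_apply, ghostComponent_teichmuller]
    cases n with
    | zero => simp
    | succ n =>
      have hnil : ∀ v : ℚ × ℚ, (TrivSqZeroExt.inr v : (TrivSqZeroExt ℚ (ℚ × ℚ))) ^ p ^ (n + 1) = 0 := fun v => by
        refine pow_eq_zero_of_le (m := 2) (le_trans hp.out.two_le ?_) (by rw [pow_two, TrivSqZeroExt.inr_mul_inr])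
        exact Nat.le_self_pow (by omega) p
      have hX : ∀ v : ℤ × ℤ, ι (TrivSqZeroExt.inr v) = TrivSqZeroExt.inr ((v.1 : ℚ), (v.2 : ℚ)) := fun v => by
        show ι (TrivSqZeroExt.inr v) = _
        rw [hι]; simp
      simp only [X, Y, hX]
      rw [← TrivSqZeroExt.inr_add, hnil, hnil, hnil, add_zero]
  -- to the quotient
  let g₂ : ℤ × ℤ →ₗ[ℤ] S ⧸ J' :=
    { toFun := fun v => Ideal.Quotient.mk J' (v.1 * a + v.2 * b)
      map_add' := fun v w => by simp [add_mul, add_add_add_comm]
      map_smul' := fun c v => by simp [mul_add, mul_assoc] }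
  let κ : (TrivSqZeroExt ℤ (ℤ × ℤ)) →ₐ[ℤ] S ⧸ J' := TrivSqZeroExt.lift (Algebra.ofId ℤ (S ⧸ J')) g₂
    (fun v w => by
      show Ideal.Quotient.mk J' _ * Ideal.Quotient.mk J' _ = 0
      rw [← map_mul, Ideal.Quotient.eq_zero_iff_mem]
      exact hJJ (Ideal.mul_mem_mul (add_mem (J.mul_mem_left _ ha) (J.mul_mem_left _ hb))
        (add_mem (J.mul_mem_left _ ha) (J.mul_mem_left _ hb))))
    (fun c v => (g₂.map_smul c v).trans (by simp [Algebra.ofId_apply]))
    (fun c v => (congrArg g₂ (op_smul_eq_smul c v)).trans ((g₂.map_smul c v).trans (by simp [Algebra.ofId_apply, mul_comm])))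
  have hκ : ∀ v : ℤ × ℤ, κ (TrivSqZeroExt.inr v) = Ideal.Quotient.mk J' (v.1 * a + v.2 * b) := fun v => by
    simp [κ, g₂]
  have h := congrArg (WittVector.map κ.toRingHom) key
  simp only [map_add, WittVector.map_teichmuller] at h ⊢
  simpa [X, Y, hκ] using h

theorem shift_add {x y : WittVector p S} (hx : x ∈ WK p J) (hy : y ∈ WK p J) :
    (x + y).shift 1 - (x.shift 1 + y.shift 1) ∈ WK p J' := by
  set m := WittVector.map (p := p) (Ideal.Quotient.mk J')
  have h0 : (x + y).coeff 0 = x.coeff 0 + y.coeff 0 := WittVector.add_coeff_zero x y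
  have e := congrArg m (eq_teich_add (x + y))
  simp only [h0, map_add m] at e
  rw [show m (teichmuller p (x.coeff 0 + y.coeff 0)) = _ from map_teich_add hJJ (mem_WK.1 hx 0) (mem_WK.1 hy 0)] at e
  conv_lhs at e => rw [eq_teich_add x, eq_teich_add y]
  have hV : ∀ z, m (verschiebung z) = verschiebung (m z) := fun z => WittVector.map_verschiebung _ z
  simp only [map_add, hV] at e
  rw [WK, RingHom.mem_ker, map_sub, sub_eq_zero, map_add]
  refine verschiebung_injective p _ ?_
  rw [map_add]
  linear_combination (norm := abel) -e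

theorem shift_mul {x : WittVector p S} (c : WittVector p S) (hx : x ∈ WK p J) :
    (c * x).shift 1 - frobenius c * x.shift 1 ∈ WK p J' := by
  set m := WittVector.map (p := p) (Ideal.Quotient.mk J')
  have hσ : m (frobenius (teichmuller p (x.coeff 0))) = 0 := by
    refine RingHom.mem_ker.1 (frobenius_mem hJJ hpJ (mem_WK.2 fun n => ?_))
    cases n with
    | zero => rw [teichmuller_coeff_zero]; exact mem_WK.1 hx 0
    | succ n => rw [teichmuller_coeff_pos _ _ _ n.succ_pos]; exact J.zero_mem
  have e1 : c * x = c * teichmuller p (x.coeff 0) + verschiebung (x.shift 1 * frobenius c) := by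
    conv_lhs => rw [eq_teich_add x, mul_add]
    rw [verschiebung_mul_frobenius, mul_comm c (verschiebung _)]
  have e2 : c * teichmuller p (x.coeff 0) = teichmuller p (c.coeff 0 * x.coeff 0) +
      verschiebung (c.shift 1 * frobenius (teichmuller p (x.coeff 0))) := by
    conv_lhs => rw [eq_teich_add c, add_mul]
    rw [map_mul, verschiebung_mul_frobenius]
  have e3 : (c * x).shift 1 =
      c.shift 1 * frobenius (teichmuller p (x.coeff 0)) + x.shift 1 * frobenius c := by
    rw [e1, e2, add_assoc, ← map_add, shift_teich_add]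
  rw [WK, RingHom.mem_ker, e3, map_sub, map_add, map_mul, hσ, mul_zero, zero_add, mul_comm, sub_self]

end Small

/-- the filtration by square and `p` -/
def seq (p : ℕ) (K : Ideal S) : ℕ → Ideal S
  | 0 => K
  | n + 1 => seq p K n * seq p K n ⊔ Ideal.span {(p : S)} * seq p K n

theorem seq_le (K : Ideal S) (n : ℕ) : seq p K n ≤ (K ⊔ Ideal.span {(p : S)}) ^ n * K ∧ seq p K n ≤ K := by
  induction n with
  | zero => simp [seq]
  | succ n ih =>
    have h : seq p K (n + 1) ≤ (K ⊔ Ideal.span {(p : S)}) * seq p K n := by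
      show seq p K n * seq p K n ⊔ Ideal.span {(p : S)} * seq p K n ≤ _
      rw [Ideal.sup_mul]
      exact sup_le_sup (Ideal.mul_mono_left ih.2) le_rfl
    refine ⟨h.trans ?_, h.trans (Ideal.mul_le_right.trans ih.2)⟩
    rw [pow_succ', mul_assoc]
    exact Ideal.mul_mono_right ih.1

theorem exists_seq_eq_bot (hpn : IsNilpotent (p : S)) {K : Ideal S} (hK : IsNilpotent K) :
    ∃ N, seq p K N = ⊥ := by
  obtain ⟨a, ha⟩ := hpn
  have h : IsNilpotent (K + Ideal.span {(p : S)}) := by
    refine (Commute.all _ _).isNilpotent_add hK ⟨a, ?_⟩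
    rw [Ideal.span_singleton_pow, ha]
    exact Ideal.span_singleton_eq_bot.2 rfl
  obtain ⟨N, hN⟩ := h
  refine ⟨N, eq_bot_iff.2 ((seq_le K N).1.trans ?_)⟩
  rw [← Submodule.add_eq_sup, hN]
  simp

theorem pow_mul_eq_zero {K : Ideal S} {N : ℕ} (hN : seq p K N = ⊥) {x : WittVector p S} (hx : x ∈ WK p K) :
    (p : WittVector p S) ^ N * x = 0 := by
  have h : ∀ n, (p : WittVector p S) ^ n * x ∈ WK p (seq p K n) := by
    intro n
    induction n with
    | zero => simpa [seq] using hx
    | succ n ih =>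
      rw [pow_succ', mul_assoc, mul_comm]
      exact mul_natCast_mem (le_sup_left : seq p K n * seq p K n ≤ seq p K (n + 1)) le_sup_right ih
  have h2 := h N
  rwa [hN, WK_bot, Ideal.mem_bot] at h2

end GrothLib.DispRigid
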