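import Groth.Prelude.Def_Disp2
import Groth.Agent.Lib.DispRigid.Rank
import Groth.Agent.Lib.DispRigid.Witt
import Mathlib

/-!
# Base change of 3n-displays
-/

universe u v w

namespace GrothLib.DispRigid

open W4c1extbt610

/-- semilinear maps out of a twisted base change agree if they agree on every `1 ⊗ x` -/
theorem bc_semilinear_ext {A B : Type u} [CommRing A] [CommRing B] {g : A →+* B} {P : Type v} [AddCommGroup P]
    [Module A P] {C : Type u} [CommRing C] {h : B →+* C} {N : Type w} [AddCommGroup N] [Module C N]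
    {f₁ f₂ : Dieu.BC g P →ₛₗ[h] N} (H : ∀ x : P, f₁ (Dieu.BC.tmul g 1 x) = f₂ (Dieu.BC.tmul g 1 x)) : f₁ = f₂ := by
  refine LinearMap.ext fun z => ?_
  induction z using Dieu.BC.induction_on g with
  | zero => rw [map_zero, map_zero]
  | tmul b x => rw [Dieu.BC.tmul_eq_smul_tmul_one, map_smulₛₗ, map_smulₛₗ, H]
  | add z₁ z₂ h₁ h₂ => rw [map_add, map_add, h₁, h₂]

/-- extension of a semilinear endomorphism to a base change -/
noncomputable def extendSemilinear {A B : Type u} [CommRing A] [CommRing B] (g : A →+* B) {σA : A →+* A}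
    {σB : B →+* B} (h : σB.comp g = g.comp σA) {P : Type v} [AddCommGroup P] [Module A P] (ψ : P →ₛₗ[σA] P) :
    Dieu.BC g P →ₛₗ[σB] Dieu.BC g P :=
  let φ : P →ₛₗ[σB.comp g] Dieu.BC g P :=
    { toFun := fun x => Dieu.BC.tmul g 1 (ψ x)
      map_add' := fun x y => by rw [map_add, Dieu.BC.tmul_add]
      map_smul' := fun a x => by
        rw [map_smulₛₗ, ← Dieu.BC.tmul_apply_eq, Dieu.BC.smul_tmul, mul_one, h, RingHom.comp_apply] }
  (Dieu.BC.lift (σB.comp g) φ).comp (Dieu.BC.push g σB)

theorem extendSemilinear_tmul {A B : Type u} [CommRing A] [CommRing B] (g : A →+* B) {σA : A →+* A}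
    {σB : B →+* B} (h : σB.comp g = g.comp σA) {P : Type v} [AddCommGroup P] [Module A P] (ψ : P →ₛₗ[σA] P)
    (b : B) (x : P) : extendSemilinear g h ψ (Dieu.BC.tmul g b x) = Dieu.BC.tmul g (σB b) (ψ x) := by
  rw [extendSemilinear, LinearMap.comp_apply, Dieu.BC.push_tmul, Dieu.BC.lift_tmul]
  show σB b • Dieu.BC.tmul g 1 (ψ x) = _
  rw [Dieu.BC.smul_tmul, mul_one]

variable {p : ℕ} [Fact p.Prime] {S R : Type u} [CommRing S] [CommRing R] (f : S →+* R)
  {P : Type v} [AddCommGroup P] [Module (WittVector p S) P]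

local notation "σR" => (WittVector.frobenius : WittVector p R →+* WittVector p R)
local notation "σS" => (WittVector.frobenius : WittVector p S →+* WittVector p S)
local notation "Wf" => (WittVector.map f : WittVector p S →+* WittVector p R)
local notation "PR" => Dieu.BC (WittVector.map f : WittVector p S →+* WittVector p R) P

theorem frobenius_comp_map : (σR).comp (Wf) = (Wf).comp (σS) :=
  RingHom.ext fun x => ((WittVector.frobenius_isPoly p).map f x).symm

theorem exists_dualBasis {A : Type u} [CommRing A] (M : Type v) [AddCommGroup M] [Module A M]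
    [Module.Finite A M] [Module.Projective A M] :
    ∃ (n : ℕ) (φ : Fin n → (M →ₗ[A] A)) (g : Fin n → M), ∀ x, ∑ j, φ j x • g j = x := by
  obtain ⟨n, a, b, hab⟩ := Module.Finite.exists_comp_eq_id_of_projective A M
  refine ⟨n, fun j => (LinearMap.proj j).comp b, fun j => a (Pi.single j 1), fun x => ?_⟩
  conv_rhs => rw [show x = a (b x) from (LinearMap.congr_fun hab.2.2 x).symm, pi_eq_sum_univ' (b x), map_sum]
  exact Finset.sum_congr rfl fun j _ => (map_smul a _ _).symm

theorem shift_mul_of_mem {A : Type u} [CommRing A] (a : WittVector p A) {x : WittVector p A} (hx : x.coeff 0 = 0) :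
    (a * x).shift 1 = WittVector.frobenius a * x.shift 1 := by
  conv_lhs => rw [← eq_verschiebung_shift hx, mul_comm, ← WittVector.verschiebung_mul_frobenius, shift_verschiebung]
  rw [mul_comm]

theorem existsUnique_isDispBaseChange (D : Display3n p S P) :
    ∃! DR : Display3n p R (Dieu.BC (WittVector.map f : WittVector p S →+* WittVector p R) P),
      Dieu.IsDispBaseChange f D DR := by
  haveI := D.finite
  haveI := D.projective
  obtain ⟨L, T, hLT, hQ⟩ := D.exists_normal
  have hL : L ≤ D.Q := hQ ▸ le_sup_left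
  let πL : P →ₗ[WittVector p S] L := L.projectionOnto T hLT
  let πT : P →ₗ[WittVector p S] P := T.subtype.comp (T.projectionOnto L hLT.symm)
  have hsum : ∀ x : P, ((πL x : P) + πT x) = x := fun x => Submodule.projection_add_projection_eq_self hLT x
  have hπT0 : ∀ x ∈ L, πT x = 0 := fun x hx => by
    show ((T.projectionOnto L hLT.symm x : T) : P) = 0
    rw [show T.projectionOnto L hLT.symm x = 0 from Submodule.projectionOnto_apply_right hLT.symm ⟨x, hx⟩]; rfl
  have hπT1 : ∀ x ∈ T, πT x = x := fun x hx => by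
    show ((T.projectionOnto L hLT.symm x : T) : P) = x
    rw [show T.projectionOnto L hLT.symm x = ⟨x, hx⟩ from Submodule.projectionOnto_apply_left hLT.symm ⟨x, hx⟩]
  have hπTT : ∀ x, πT x ∈ T := fun x => (T.projectionOnto L hLT.symm x).2
  have hπTQ : ∀ y ∈ D.Q, πT y ∈ IV p S • T ∧ y - πT y ∈ L := fun y hy => by
    have hx := hy
    rw [hQ] at hx
    obtain ⟨l, hl, t, ht, rfl⟩ := Submodule.mem_sup.1 hx
    rw [map_add, hπT0 l hl, zero_add, hπT1 t (Submodule.smul_le_right ht)]
    exact ⟨ht, by simpa using hl⟩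
  obtain ⟨n, φ, g, hφ⟩ := exists_dualBasis (A := WittVector p S) P
  have hφT : ∀ (j : Fin n), ∀ t ∈ IV p S • T, (φ j t).coeff 0 = 0 := fun j t ht => by
    refine coeff_zero_eq_zero_of_mem_IV (S := S) ?_
    refine Submodule.smul_induction_on ht (fun a ha t _ => ?_) (fun x y hx hy => ?_)
    · rw [map_smul, smul_eq_mul]; exact Ideal.mul_mem_right _ _ ha
    · rw [map_add]; exact add_mem hx hy
  have hbcQ : ∀ x ∈ D.Q, Dieu.bcQuotMap f D.Q (Dieu.BC.tmul Wf 1 x) = 0 := fun x hx => by
    rw [Dieu.bcQuotMap_tmul, Submodule.mkQ_apply, (Submodule.Quotient.mk_eq_zero _).2 hx, Dieu.BC.tmul_zero]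
  let Q' := LinearMap.ker (Dieu.bcQuotMap f D.Q)
  -- the components
  let T' : PR →ₗ[WittVector p R] PR := Dieu.BC.map Wf πT
  let L' : PR →ₗ[WittVector p R] PR := Dieu.BC.map Wf (L.subtype.comp πL)
  have hLT' : ∀ z, L' z + T' z = z := fun z => by
    refine LinearMap.congr_fun (Dieu.BC.ext Wf (f₁ := L' + T') (f₂ := LinearMap.id) fun x => ?_) z
    rw [LinearMap.add_apply, Dieu.BC.map_tmul, Dieu.BC.map_tmul, ← Dieu.BC.tmul_add, LinearMap.id_apply]
    exact congrArg _ (hsum x)
  let coord : Fin n → (PR →ₗ[WittVector p R] WittVector p R) := fun j =>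
    Dieu.BC.lift Wf ((Dieu.semilinearOfRingHom Wf).comp (φ j))
  have hcoord : ∀ z, ∑ j, coord j z • Dieu.BC.tmul Wf 1 (g j) = z := fun z => by
    refine Eq.trans ?_ (LinearMap.congr_fun (Dieu.BC.ext Wf
      (f₁ := ∑ j, (coord j).smulRight (Dieu.BC.tmul Wf 1 (g j))) (f₂ := LinearMap.id) fun x => ?_) z)
    · rw [LinearMap.sum_apply]; rfl
    · rw [LinearMap.sum_apply, LinearMap.id_apply]
      conv_rhs => rw [← hφ x, show Dieu.BC.tmul Wf 1 (∑ j, φ j x • g j) = Dieu.BC.ι Wf P (∑ j, φ j x • g j) from rfl,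
        map_sum]
      refine Finset.sum_congr rfl fun j _ => ?_
      rw [LinearMap.smulRight_apply, Dieu.BC.lift_tmul, one_smul, map_smulₛₗ]
      rfl
  have hmem : ∀ z ∈ Q', ∀ j, (coord j (T' z)).coeff 0 = 0 := fun z hz j => by
    let θ₀ : P →ₛₗ[(WittVector.constantCoeff : WittVector p R →+* R).comp Wf] R :=
      { toFun := fun x => WittVector.constantCoeff (Wf (φ j (πT x)))
        map_add' := fun x y => by simp [map_add]
        map_smul' := fun a x => by simp [map_mul] }
    have hθ : D.Q ≤ LinearMap.ker θ₀ := fun y hy => by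
      show (Wf (φ j (πT y))).coeff 0 = 0
      rw [WittVector.map_coeff, hφT j _ (hπTQ y hy).1, map_zero]
    have h2 : ∀ w, Dieu.BC.lift _ (D.Q.liftQ θ₀ hθ) (Dieu.bcQuotMap f D.Q w)
        = WittVector.constantCoeff (coord j (T' w)) := fun w => by
      induction w using Dieu.BC.induction_on with
      | zero => simp
      | tmul b x =>
        rw [Dieu.bcQuotMap_tmul, Dieu.BC.lift_tmul, Dieu.BC.map_tmul, Dieu.BC.lift_tmul, Submodule.mkQ_apply,
          Submodule.liftQ_apply, smul_eq_mul, smul_eq_mul, map_mul]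
        rfl
      | add z₁ z₂ h₁ h₂ => simp only [map_add, h₁, h₂]
    have h3 := h2 z
    rw [LinearMap.mem_ker.1 hz, map_zero] at h3
    exact h3.symm
  -- F and the extension of V⁻¹ on L
  let FR : PR →ₛₗ[σR] PR := extendSemilinear Wf (frobenius_comp_map f) D.F
  let VL : P →ₛₗ[σS] P :=
    { toFun := fun x => D.Vinv (Submodule.inclusion hL (πL x))
      map_add' := fun x y => by simp only [map_add]
      map_smul' := fun a x => by simp only [map_smul, map_smulₛₗ] }
  let VLR : PR →ₛₗ[σR] PR := extendSemilinear Wf (frobenius_comp_map f) VL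
  have hFL : ∀ z, (p : WittVector p R) • VLR z = FR (L' z) := fun z => by
    refine LinearMap.congr_fun (bc_semilinear_ext (g := Wf) (f₁ := (p : WittVector p R) • VLR) (f₂ := FR.comp L') fun x => ?_) z
    rw [LinearMap.smul_apply, LinearMap.comp_apply, Dieu.BC.map_tmul, extendSemilinear_tmul, extendSemilinear_tmul, map_one,
      ← map_natCast Wf p, Dieu.BC.smul_tmul, mul_one, Dieu.BC.tmul_apply_eq]
    refine congrArg _ ?_
    have h := D.Vinv_verschiebung_smul 1 (πL x : P)
    rw [one_smul] at h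
    show (p : WittVector p S) • D.Vinv (Submodule.inclusion hL (πL x)) = D.F (πL x : P)
    rw [← h, ← one_mul (p : WittVector p S), ← WittVector.frobenius_verschiebung (1 : WittVector p S),
      ← map_smulₛₗ D.Vinv]
    rfl
  let G : PR → PR := fun z => VLR z + ∑ j, (coord j (T' z)).shift 1 • FR (Dieu.BC.tmul Wf 1 (g j))
  have Gadd : ∀ z ∈ Q', ∀ z' ∈ Q', G (z + z') = G z + G z' := fun z hz z' hz' => by
    simp only [G, map_add]
    have hj : ∀ j, (coord j (T' z) + coord j (T' z')).shift 1 = (coord j (T' z)).shift 1 + (coord j (T' z')).shift 1 :=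
      fun j => WittVector.verschiebung_injective p R <| by
        rw [map_add, eq_verschiebung_shift (hmem z hz j), eq_verschiebung_shift (hmem z' hz' j)]
        refine eq_verschiebung_shift ?_
        rw [← WittVector.constantCoeff_apply, map_add, WittVector.constantCoeff_apply, WittVector.constantCoeff_apply,
          hmem z hz j, hmem z' hz' j, add_zero]
    simp only [hj, add_smul, Finset.sum_add_distrib]
    abel
  have Gsmul : ∀ (a : WittVector p R), ∀ z ∈ Q', G (a • z) = WittVector.frobenius a • G z := fun a z hz => by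
    simp only [G, map_smul, map_smulₛₗ, smul_eq_mul, smul_add, Finset.smul_sum, smul_smul, shift_mul_of_mem a (hmem z hz _)]
  let VR : Q' →ₛₗ[σR] PR :=
    { toFun := fun z => G z
      map_add' := fun z z' => Gadd z z.2 z' z'.2
      map_smul' := fun a z => Gsmul a z z.2 }
  have hIV : IV p R • (⊤ : Submodule (WittVector p R) PR) ≤ Q' := by
    refine Submodule.smul_le.2 fun a ha z _ => ?_
    rw [LinearMap.mem_ker, map_smulₛₗ, WittVector.constantCoeff_apply, coeff_zero_eq_zero_of_mem_IV ha, zero_smul]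
  have GV : ∀ (w : WittVector p R) (z : PR), G (WittVector.verschiebung w • z) = w • FR z := fun w z => by
    have hsh : ∀ j, (coord j (T' (WittVector.verschiebung w • z))).shift 1
        = w * WittVector.frobenius (coord j (T' z)) := fun j => by
      rw [map_smul, map_smul, smul_eq_mul, mul_comm,
        shift_mul_of_mem _ (WittVector.verschiebung_coeff_zero w), shift_verschiebung, mul_comm]
    show VLR (WittVector.verschiebung w • z) + ∑ j, (coord j (T' (WittVector.verschiebung w • z))).shift 1 • FR (Dieu.BC.tmul Wf 1 (g j)) = w • FR z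
    rw [Finset.sum_congr rfl fun j _ => by rw [hsh j, mul_smul], ← Finset.smul_sum, map_smulₛₗ,
      WittVector.frobenius_verschiebung, mul_smul, hFL, ← smul_add]
    refine congrArg (w • ·) ?_
    conv_rhs => rw [← hLT' z, map_add, ← hcoord (T' z), map_sum]
    exact congrArg _ (Finset.sum_congr rfl fun j _ => (map_smulₛₗ FR _ _).symm)
  have G1 : ∀ y : D.Q, G (Dieu.BC.tmul Wf 1 (y : P)) = Dieu.BC.tmul Wf 1 (D.Vinv y) := fun y => by
    obtain ⟨h1, h2⟩ := hπTQ y y.2
    have hmemj : ∀ j, φ j (πT y) • g j ∈ D.Q := fun j =>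
      D.IV_smul_le (Submodule.smul_mem_smul (by
        rw [← eq_verschiebung_shift (hφT j _ h1)]; exact verschiebung_mem_IV p S _) Submodule.mem_top)
    have hy : y = Submodule.inclusion hL (πL (y : P)) + ∑ j, (⟨φ j (πT y) • g j, hmemj j⟩ : D.Q) :=
      Subtype.ext (by rw [Submodule.coe_add, Submodule.coe_sum]; exact ((congrArg _ (hφ (πT (y : P)))).trans (hsum y)).symm)
    have hv : ∀ j, D.Vinv ⟨φ j (πT y) • g j, hmemj j⟩ = (φ j (πT y)).shift 1 • D.F (g j) := fun j => by
      rw [← D.Vinv_verschiebung_smul]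
      exact congrArg D.Vinv (Subtype.ext (congrArg (· • g j) (eq_verschiebung_shift (hφT j _ h1)).symm))
    conv_rhs => rw [hy, map_add, map_sum, Dieu.BC.tmul_add]
    have hsum' : Dieu.BC.tmul Wf 1 (∑ j, D.Vinv ⟨φ j (πT y) • g j, hmemj j⟩)
        = ∑ j, Dieu.BC.tmul Wf 1 (D.Vinv ⟨φ j (πT y) • g j, hmemj j⟩) := map_sum (Dieu.BC.ι Wf P) _ _
    rw [hsum']
    show VLR (Dieu.BC.tmul Wf 1 (y : P)) + _ = _
    rw [extendSemilinear_tmul, map_one]
    refine congrArg₂ (· + ·) rfl (Finset.sum_congr rfl fun j _ => ?_)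
    rw [hv, Dieu.BC.map_tmul, Dieu.BC.lift_tmul, one_smul, extendSemilinear_tmul, map_one, ← Dieu.BC.tmul_apply_eq,
      Dieu.BC.smul_tmul, mul_one]
    refine congrArg (fun c => Dieu.BC.tmul Wf c (D.F (g j))) (WittVector.verschiebung_injective p R ?_)
    rw [← WittVector.map_verschiebung, eq_verschiebung_shift (hφT j _ h1)]
    exact eq_verschiebung_shift (by
      show (Wf (φ j (πT y))).coeff 0 = 0
      rw [WittVector.map_coeff, hφT j _ h1, map_zero])
  have hidem : IsIdempotentElem T' := by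
    refine Dieu.BC.ext Wf fun x => ?_
    show T' (T' _) = T' _
    rw [Dieu.BC.map_tmul, Dieu.BC.map_tmul, hπT1 _ (hπTT x)]
  have hnormal : Q' = LinearMap.ker T' ⊔ IV p R • LinearMap.range T' := by
    refine le_antisymm (fun z hz => ?_) (sup_le (fun z hz => ?_) ((Submodule.smul_mono le_rfl le_top).trans hIV))
    · have hT : T' z ∈ IV p R • LinearMap.range T' := by
        have h : T' (T' z) = T' z := LinearMap.congr_fun hidem z
        rw [← h]
        conv => enter [2]; rw [← hcoord (T' z), map_sum]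
        refine Submodule.sum_mem _ fun j _ => ?_
        rw [map_smul]
        refine Submodule.smul_mem_smul ?_ (LinearMap.mem_range_self _ _)
        rw [← eq_verschiebung_shift (hmem z hz j)]
        exact verschiebung_mem_IV p R _
      exact Submodule.mem_sup.2 ⟨z - T' z, by rw [LinearMap.mem_ker, map_sub, show T' (T' z) = T' z from LinearMap.congr_fun hidem z, sub_self],
        T' z, hT, sub_add_cancel _ _⟩
    · have h : L' z = z := by
        conv_rhs => rw [← hLT' z, LinearMap.mem_ker.1 hz, add_zero]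
      rw [← h]
      clear h hz
      show Dieu.bcQuotMap f D.Q (L' z) = 0
      induction z using Dieu.BC.induction_on with
      | zero => simp
      | tmul b x => rw [Dieu.BC.map_tmul, Dieu.BC.tmul_eq_smul_tmul_one, map_smulₛₗ,
          hbcQ ((L.subtype.comp πL) x) (hL (πL x).2), smul_zero]
      | add z₁ z₂ h₁ h₂ => rw [map_add, map_add, h₁, h₂, add_zero]
  let DR : Display3n p R PR :=
    { Q := Q'
      F := FR
      Vinv := VR
      finite := finite_BC _
      projective := projective_BC _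
      IV_smul_le := hIV
      exists_normal := ⟨LinearMap.ker T', LinearMap.range T',
        (LinearMap.IsIdempotentElem.isCompl hidem).symm, hnormal⟩
      span_range_Vinv := by
        rw [eq_top_iff]
        rintro z -
        induction z using Dieu.BC.induction_on with
        | zero => exact Submodule.zero_mem _
        | add z₁ z₂ h₁ h₂ => exact Submodule.add_mem _ h₁ h₂
        | tmul b x =>
          rw [Dieu.BC.tmul_eq_smul_tmul_one]
          refine Submodule.smul_mem _ _ ?_
          have hx : x ∈ Submodule.span (WittVector p S) (Set.range D.Vinv) := D.span_range_Vinv ▸ Submodule.mem_top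
          induction hx using Submodule.span_induction with
          | mem y hy =>
            obtain ⟨y, rfl⟩ := hy
            exact Submodule.subset_span ⟨⟨_, LinearMap.mem_ker.2 (hbcQ y y.2)⟩, G1 y⟩
          | zero => rw [Dieu.BC.tmul_zero]; exact Submodule.zero_mem _
          | add x y _ _ hx hy => rw [Dieu.BC.tmul_add]; exact Submodule.add_mem _ hx hy
          | smul a x _ hx =>
            rw [← Dieu.BC.tmul_apply_eq, Dieu.BC.tmul_eq_smul_tmul_one]; exact Submodule.smul_mem _ _ hx
      Vinv_verschiebung_smul := fun w z => GV w z }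
  have hDR : Dieu.IsDispBaseChange f D DR :=
    { Q_eq := rfl
      F_tmul := fun w x => extendSemilinear_tmul _ (frobenius_comp_map f) _ _ _
      Vinv_tmul := fun w y h => by
        show G (Dieu.BC.tmul Wf w (y : P)) = _
        rw [Dieu.BC.tmul_eq_smul_tmul_one, Gsmul _ _ (LinearMap.mem_ker.2 (hbcQ y y.2)), G1, Dieu.BC.smul_tmul, mul_one]
      Vinv_verschiebung_tmul := fun w x h => by
        show G (Dieu.BC.tmul Wf (WittVector.verschiebung w) x) = _
        rw [Dieu.BC.tmul_eq_smul_tmul_one, GV, extendSemilinear_tmul, map_one, Dieu.BC.smul_tmul, mul_one] }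
  refine ⟨DR, hDR, fun D₂ h₂ => ?_⟩
  obtain ⟨Q₂, F₂, V₂, _, _, hI₂, _, _, hVV₂⟩ := D₂
  obtain rfl : Q₂ = Q' := h₂.Q_eq
  obtain rfl : F₂ = FR := bc_semilinear_ext fun x =>
    (h₂.F_tmul 1 x).trans (extendSemilinear_tmul _ _ _ _ _).symm
  suffices hV : V₂ = VR by subst hV; rfl
  refine LinearMap.ext fun z => ?_
  have hmj : ∀ j, coord j (T' z.1) • Dieu.BC.tmul Wf 1 (g j) ∈ Q' := fun j =>
    hIV (Submodule.smul_mem_smul (by
      rw [← eq_verschiebung_shift (hmem z.1 z.2 j)]; exact verschiebung_mem_IV p R _) Submodule.mem_top)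
  have hTz : T' z.1 ∈ Q' := by rw [← hcoord (T' z.1)]; exact Submodule.sum_mem _ fun j _ => hmj j
  have hLz : ∀ w : PR, ∃ h : L' w ∈ Q', V₂ ⟨L' w, h⟩ = VLR w := fun w => by
    induction w using Dieu.BC.induction_on with
    | zero =>
      refine ⟨by rw [map_zero]; exact Submodule.zero_mem _, ?_⟩
      rw [map_zero VLR]
      exact (congrArg V₂ (Subtype.ext (map_zero L') : _ = (0 : Q'))).trans (map_zero V₂)
    | tmul b x =>
      have e : L' (Dieu.BC.tmul Wf b x) = Dieu.BC.tmul Wf b ((Submodule.inclusion hL (πL x) : D.Q) : P) :=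
        Dieu.BC.map_tmul _ _ _ _
      have hm : Dieu.BC.tmul Wf b ((Submodule.inclusion hL (πL x) : D.Q) : P) ∈ Q' := by
        rw [Dieu.BC.tmul_eq_smul_tmul_one]; exact Submodule.smul_mem _ _ (LinearMap.mem_ker.2 (hbcQ _ (Submodule.coe_mem _)))
      refine ⟨e ▸ hm, ?_⟩
      rw [extendSemilinear_tmul]
      exact (congrArg V₂ (Subtype.ext e)).trans (h₂.Vinv_tmul b (Submodule.inclusion hL (πL x)) hm)
    | add w₁ w₂ i₁ i₂ =>
      obtain ⟨m₁, e₁⟩ := i₁
      obtain ⟨m₂, e₂⟩ := i₂
      refine ⟨by rw [map_add]; exact add_mem m₁ m₂, ?_⟩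
      exact ((congrArg V₂ (Subtype.ext (map_add L' w₁ w₂) : _ = (⟨_, m₁⟩ + ⟨_, m₂⟩ : Q'))).trans (map_add V₂ _ _)).trans
        ((congrArg₂ (· + ·) e₁ e₂).trans (map_add VLR w₁ w₂).symm)
  obtain ⟨hLzm, hLze⟩ := hLz z.1
  have hz : z = ⟨L' z.1, hLzm⟩ + ∑ j, (⟨coord j (T' z.1) • Dieu.BC.tmul Wf 1 (g j), hmj j⟩ : Q') :=
    Subtype.ext (by rw [Submodule.coe_add, Submodule.coe_sum]; exact ((congrArg _ (hcoord (T' z.1))).trans (hLT' z.1)).symm)
  conv_lhs => rw [hz, map_add, map_sum, hLze]
  refine congrArg₂ (· + ·) rfl (Finset.sum_congr rfl fun j _ => ?_)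
  rw [← hVV₂]
  exact congrArg V₂ (Subtype.ext (congrArg (· • Dieu.BC.tmul Wf 1 (g j)) (eq_verschiebung_shift (hmem z.1 z.2 j)).symm))

end GrothLib.DispRigid
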