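import Groth.Prelude.Def_Disp2
import Groth.Agent.Lib.DispRigid.Rank
import Groth.Agent.Lib.DispRigid.Witt
import Mathlib

/-!
# Existence and uniqueness of the operator `V#` of a 3n-display
-/

universe u v

namespace GrothLib.DispRigid

variable {p : ℕ} [Fact p.Prime] {R : Type u} [CommRing R] {P : Type v} [AddCommGroup P] [Module (WittVector p R) P]

open W4c1extbt610

local notation "W" => WittVector p R
local notation "σ" => (WittVector.frobenius : WittVector p R →+* WittVector p R)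

theorem exists_eq_verschiebung_of_mem_IV {a : W} (ha : a ∈ IV p R) :
    ∃ u, WittVector.verschiebung u = a :=
  ⟨_, eq_verschiebung_shift (coeff_zero_eq_zero_of_mem_IV ha)⟩

theorem F_eq_p_smul_Vinv (D : Display3n p R P) (y : D.Q) : D.F (y : P) = (p : W) • D.Vinv y := by
  have h := D.Vinv_verschiebung_smul 1 (y : P)
  rw [one_smul] at h
  rw [← h, ← one_mul (p : W), ← WittVector.frobenius_verschiebung (1 : W),
    ← map_smulₛₗ D.Vinv (WittVector.verschiebung (1 : W)) y]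
  rfl

theorem vSharp_unique (D : Display3n p R P) {Vs Vs' : P →ₗ[W] Dieu.BC σ P}
    (h : Dieu.IsVSharp D Vs) (h' : Dieu.IsVSharp D Vs') : Vs = Vs' := by
  refine LinearMap.ext_on D.span_range_Vinv ?_
  rintro _ ⟨y, rfl⟩
  have h1 := h.app_smul_Vinv 1 y
  have h2 := h'.app_smul_Vinv 1 y
  rw [one_smul] at h1 h2
  rw [h1, h2]

/-- A map with the property of `V#` on the images `V⁻¹ y` and `F x` (with coefficient one) has it. -/
theorem isVSharp_mk (D : Display3n p R P) (Vs : P →ₗ[W] Dieu.BC σ P)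
    (hF : ∀ x, Vs (D.F x) = (p : W) • Dieu.BC.tmul σ 1 x)
    (hV : ∀ y : D.Q, Vs (D.Vinv y) = Dieu.BC.tmul σ 1 (y : P)) : Dieu.IsVSharp D Vs where
  app_smul_F w x := by
    rw [map_smul, hF, Dieu.BC.tmul_eq_smul_tmul_one σ w x, smul_comm]
  app_smul_Vinv w y := by
    rw [map_smul, hV, Dieu.BC.tmul_eq_smul_tmul_one σ w (y : P)]

theorem exists_vSharp (hp : IsNilpotent (p : R)) (D : Display3n p R P) :
    ∃ Vs : P →ₗ[W] Dieu.BC σ P, Dieu.IsVSharp D Vs := by
  haveI := D.finite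
  haveI := D.projective
  obtain ⟨L, T, hLT, hQ⟩ := D.exists_normal
  have hL : L ≤ D.Q := hQ ▸ le_sup_left
  let πL : P →ₗ[W] L := L.projectionOnto T hLT
  let πT : P →ₗ[W] T := T.projectionOnto L hLT.symm
  have hsum : ∀ x : P, ((πL x : P) + (πT x : P)) = x := fun x => Submodule.projection_add_projection_eq_self hLT x
  have hLl : ∀ x (hx : x ∈ L), (πL x : P) = x ∧ (πT x : P) = 0 := fun x hx =>
    ⟨by rw [show πL x = ⟨x, hx⟩ from Submodule.projectionOnto_apply_left hLT ⟨x, hx⟩],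
     by rw [show πT x = 0 from Submodule.projectionOnto_apply_right hLT.symm ⟨x, hx⟩]; rfl⟩
  have hTt : ∀ x (hx : x ∈ T), (πL x : P) = 0 ∧ (πT x : P) = x := fun x hx =>
    ⟨by rw [show πL x = 0 from Submodule.projectionOnto_apply_right hLT ⟨x, hx⟩]; rfl,
     by rw [show πT x = ⟨x, hx⟩ from Submodule.projectionOnto_apply_left hLT.symm ⟨x, hx⟩]⟩
  let φ : P →ₛₗ[σ] P :=
    { toFun := fun x => D.Vinv (Submodule.inclusion hL (πL x)) + D.F (πT x : P)
      map_add' := fun x y => by simp only [map_add, Submodule.coe_add]; abel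
      map_smul' := fun a x => by simp only [map_smul, map_smulₛₗ, SetLike.val_smul, smul_add] }
  let Φ := Dieu.BC.lift σ φ
  let m : Dieu.BC σ P →ₗ[W] Dieu.BC σ P :=
    Dieu.BC.map σ (L.subtype.comp πL + (p : W) • T.subtype.comp πT)
  have hm : ∀ x, m (Dieu.BC.tmul σ 1 x) = Dieu.BC.tmul σ 1 ((πL x : P) + (p : W) • (πT x : P)) := fun x => by
    rw [Dieu.BC.map_tmul]; rfl
  have hΦ : ∀ x, Φ (Dieu.BC.tmul σ 1 x) = φ x := fun x => by rw [Dieu.BC.lift_tmul, one_smul]
  have hVinv0 : D.Vinv 0 = 0 := map_zero D.Vinv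
  have key : ∀ x, ∀ hx : x ∈ D.Q, ∃ z, Φ z = D.Vinv ⟨x, hx⟩ ∧ m z = Dieu.BC.tmul σ 1 x := by
    have hIT : ∀ x ∈ IV p R • T, x ∈ D.Q ∧ ∀ hx : x ∈ D.Q, ∃ z, Φ z = D.Vinv ⟨x, hx⟩ ∧ m z = Dieu.BC.tmul σ 1 x := by
      intro x hxT
      refine Submodule.smul_induction_on hxT (fun a ha t ht => ?_) (fun x y hx hy => ?_)
      · obtain ⟨u, rfl⟩ := exists_eq_verschiebung_of_mem_IV ha
        refine ⟨D.IV_smul_le (Submodule.smul_mem_smul ha Submodule.mem_top), fun hx => ?_⟩
        refine ⟨u • Dieu.BC.tmul σ 1 t, ?_, ?_⟩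
        · rw [map_smul, hΦ, D.Vinv_verschiebung_smul u t]
          show u • (D.Vinv (Submodule.inclusion hL (πL t)) + D.F (πT t : P)) = _
          have h1 : Submodule.inclusion hL (πL t) = 0 := Subtype.ext (hTt t ht).1
          rw [h1, hVinv0, zero_add, (hTt t ht).2]
        · rw [map_smul, hm, (hTt t ht).1, (hTt t ht).2, zero_add, ← Dieu.BC.tmul_apply_eq σ (WittVector.verschiebung u) t,
            WittVector.frobenius_verschiebung, ← Dieu.BC.tmul_apply_eq σ (p : W) t, map_natCast, Dieu.BC.smul_tmul]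
      · refine ⟨add_mem hx.1 hy.1, fun h => ?_⟩
        obtain ⟨z₁, a₁, b₁⟩ := hx.2 hx.1
        obtain ⟨z₂, a₂, b₂⟩ := hy.2 hy.1
        refine ⟨z₁ + z₂, ?_, ?_⟩
        · rw [map_add, a₁, a₂, ← map_add]; rfl
        · rw [map_add, b₁, b₂, Dieu.BC.tmul_add]
    intro x hx
    obtain ⟨l, hl, t, ht, rfl⟩ := Submodule.mem_sup.1 (hQ ▸ hx : x ∈ L ⊔ IV p R • T)
    obtain ⟨htQ, h⟩ := hIT t ht
    obtain ⟨z, a, b⟩ := h htQ
    refine ⟨Dieu.BC.tmul σ 1 l + z, ?_, ?_⟩
    · rw [map_add, hΦ, a]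
      show D.Vinv (Submodule.inclusion hL (πL l)) + D.F (πT l : P) + _ = _
      rw [(hLl l hl).2, map_zero, add_zero, ← map_add]
      exact congrArg D.Vinv (Subtype.ext (by
        show (πL l : P) + t = l + t
        rw [(hLl l hl).1]))
    · rw [map_add, hm, b, (hLl l hl).1, (hLl l hl).2, smul_zero, add_zero, Dieu.BC.tmul_add]
  have hsurj : Function.Surjective Φ := by
    rw [← LinearMap.range_eq_top, eq_top_iff, ← D.span_range_Vinv, Submodule.span_le]
    rintro _ ⟨⟨x, hx⟩, rfl⟩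
    obtain ⟨z, a, -⟩ := key x hx
    exact ⟨z, a⟩
  haveI : Module.Finite W (Dieu.BC σ P) := finite_BC σ
  haveI : Module.Projective W (Dieu.BC σ P) := projective_BC σ
  have hinj : Function.Injective Φ :=
    injective_of_surjective_of_rank Φ hsurj fun q hq => rankAtStalk_BC_frobenius hp q hq
  let e := LinearEquiv.ofBijective Φ ⟨hinj, hsurj⟩
  have he : ∀ z, e.symm (Φ z) = z := fun z => e.symm_apply_apply z
  refine ⟨m.comp e.symm.toLinearMap, isVSharp_mk D _ (fun x => ?_) (fun y => ?_)⟩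
  · have h1 : D.F x = Φ ((p : W) • Dieu.BC.tmul σ 1 (πL x : P) + Dieu.BC.tmul σ 1 (πT x : P)) := by
      rw [map_add, map_smul, hΦ, hΦ]
      show D.F x = (p : W) • (D.Vinv (Submodule.inclusion hL (πL (πL x : P))) + D.F (πT (πL x : P) : P))
        + (D.Vinv (Submodule.inclusion hL (πL (πT x : P))) + D.F (πT (πT x : P) : P))
      have hl := hLl _ (πL x).2
      have ht := hTt _ (πT x).2
      have a1 : Submodule.inclusion hL (πL (πT x : P)) = 0 := Subtype.ext ht.1
      rw [hl.2, ht.2, a1, hVinv0, map_zero, add_zero, zero_add, ← F_eq_p_smul_Vinv, Submodule.coe_inclusion, hl.1,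
        ← map_add, hsum]
    rw [LinearMap.comp_apply, LinearEquiv.coe_coe, h1, he, map_add, map_smul, hm, hm,
      (hLl _ (πL x).2).1, (hLl _ (πL x).2).2, (hTt _ (πT x).2).1, (hTt _ (πT x).2).2, smul_zero, add_zero, zero_add,
      ← Dieu.BC.tmul_apply_eq σ (p : W) (πT x : P), map_natCast]
    conv_rhs => rw [← hsum x, Dieu.BC.tmul_add, smul_add]
    rw [Dieu.BC.smul_tmul, Dieu.BC.smul_tmul, mul_one]
  · obtain ⟨z, a, b⟩ := key y y.2
    rw [LinearMap.comp_apply, LinearEquiv.coe_coe, ← a, he, b]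

end GrothLib.DispRigid
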