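import Groth.Agent.Lib.DispRigid.BaseChange
import Groth.Agent.Lib.DispRigid.VSharp
import Mathlib

/-!
# The base change of a display is a display
-/

universe u v

namespace GrothLib.DispRigid

open W4c1extbt610

/-- comparison of twisted base changes -/
noncomputable def bcComm {A B : Type u} [CommRing A] [CommRing B] (g : A →+* B) {σA : A →+* A} {σB : B →+* B}
    (h : σB.comp g = g.comp σA) {P : Type v} [AddCommGroup P] [Module A P] :
    Dieu.BC σA P →ₛₗ[g] Dieu.BC σB (Dieu.BC g P) :=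
  let φ : P →ₛₗ[g.comp σA] Dieu.BC σB (Dieu.BC g P) :=
    { toFun := fun x => Dieu.BC.tmul σB 1 (Dieu.BC.tmul g 1 x)
      map_add' := fun x y => by rw [Dieu.BC.tmul_add, Dieu.BC.tmul_add]
      map_smul' := fun a x => by
        rw [← Dieu.BC.tmul_apply_eq, Dieu.BC.tmul_eq_smul_tmul_one g, ← Dieu.BC.tmul_apply_eq σB,
          Dieu.BC.tmul_eq_smul_tmul_one σB, show σB (g a) = g (σA a) from RingHom.congr_fun h a]
        rfl }
  (Dieu.BC.lift (g.comp σA) φ).comp (Dieu.BC.push σA g)

theorem bcComm_tmul {A B : Type u} [CommRing A] [CommRing B] (g : A →+* B) {σA : A →+* A} {σB : B →+* B}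
    (h : σB.comp g = g.comp σA) {P : Type v} [AddCommGroup P] [Module A P] (a : A) (x : P) :
    bcComm g h (Dieu.BC.tmul σA a x) = Dieu.BC.tmul σB (g a) (Dieu.BC.tmul g 1 x) := by
  rw [bcComm, LinearMap.comp_apply, Dieu.BC.push_tmul, Dieu.BC.lift_tmul]
  show g a • Dieu.BC.tmul σB 1 (Dieu.BC.tmul g 1 x) = _
  rw [Dieu.BC.smul_tmul, mul_one]

theorem pow_comp_comm {A B : Type u} [CommRing A] [CommRing B] (g : A →+* B) {σA : A →+* A} {σB : B →+* B}
    (h : σB.comp g = g.comp σA) : ∀ m : ℕ, (σB ^ m).comp g = g.comp (σA ^ m)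
  | 0 => rfl
  | m + 1 => by
    rw [← Dieu.comp_pow_eq_pow_succ, ← Dieu.comp_pow_eq_pow_succ, RingHom.comp_assoc, pow_comp_comm g h m,
      ← RingHom.comp_assoc, h, RingHom.comp_assoc]

variable {p : ℕ} [Fact p.Prime] {S R : Type u} [CommRing S] [CommRing R] (f : S →+* R)
  {P : Type v} [AddCommGroup P] [Module (WittVector p S) P]

local notation "Wf" => (WittVector.map f : WittVector p S →+* WittVector p R)

theorem map_mem_IV {a : WittVector p S} (ha : a ∈ IV p S) : Wf a ∈ IV p R := by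
  rw [← eq_verschiebung_shift (coeff_zero_eq_zero_of_mem_IV ha), WittVector.map_verschiebung]
  exact verschiebung_mem_IV p R _

theorem Q_le_span (D : Display3n p S P) :
    LinearMap.ker (Dieu.bcQuotMap f D.Q) ≤
      Submodule.span (WittVector p R) (Set.range fun y : D.Q => Dieu.BC.tmul Wf 1 (y : P))
        ⊔ IV p R • (⊤ : Submodule (WittVector p R) (Dieu.BC Wf P)) := by
  intro z hz
  haveI := D.finite
  haveI := D.projective
  obtain ⟨L, T, hLT, hQ⟩ := D.exists_normal
  have hL : L ≤ D.Q := hQ ▸ le_sup_left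
  let πT : P →ₗ[WittVector p S] P := T.subtype.comp (T.projectionOnto L hLT.symm)
  have hπT : ∀ x, x - πT x ∈ L := fun x => by
    have h : (L.projectionOnto T hLT x : P) + πT x = x := Submodule.projection_add_projection_eq_self hLT x
    rw [show x - πT x = (L.projectionOnto T hLT x : P) from sub_eq_iff_eq_add.2 h.symm]
    exact Submodule.coe_mem _
  obtain ⟨n, φ, g, hφ⟩ := exists_dualBasis (A := WittVector p S) P
  have hφQ : ∀ j, ∀ y ∈ D.Q, (φ j (πT y)).coeff 0 = 0 := fun j y hy => by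
    refine coeff_zero_eq_zero_of_mem_IV (S := S) ?_
    rw [hQ] at hy
    obtain ⟨l, hl, t, ht, rfl⟩ := Submodule.mem_sup.1 hy
    have h0 : πT l = 0 := by
      show ((T.projectionOnto L hLT.symm l : T) : P) = 0
      rw [show T.projectionOnto L hLT.symm l = 0 from Submodule.projectionOnto_apply_right hLT.symm ⟨l, hl⟩]; rfl
    rw [map_add, h0, zero_add]
    refine Submodule.smul_induction_on ht (fun a ha t _ => ?_) (fun x y hx hy => ?_)
    · rw [map_smul, map_smul, smul_eq_mul]; exact Ideal.mul_mem_right _ _ ha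
    · rw [map_add, map_add]; exact add_mem hx hy
  let coord : Fin n → (Dieu.BC Wf P →ₗ[WittVector p R] WittVector p R) := fun j =>
    Dieu.BC.lift Wf ((Dieu.semilinearOfRingHom Wf).comp ((φ j).comp πT))
  have hmem : ∀ j, coord j z ∈ IV p R := fun j => by
    let θ₀ : P →ₛₗ[(WittVector.constantCoeff : WittVector p R →+* R).comp Wf] R :=
      { toFun := fun x => WittVector.constantCoeff (Wf (φ j (πT x)))
        map_add' := fun x y => by simp [map_add]
        map_smul' := fun a x => by simp [map_mul] }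
    have hθ : D.Q ≤ LinearMap.ker θ₀ := fun y hy => by
      show (Wf (φ j (πT y))).coeff 0 = 0
      rw [WittVector.map_coeff, hφQ j y hy, map_zero]
    have h2 : ∀ w, Dieu.BC.lift _ (D.Q.liftQ θ₀ hθ) (Dieu.bcQuotMap f D.Q w)
        = WittVector.constantCoeff (coord j w) := fun w => by
      induction w using Dieu.BC.induction_on with
      | zero => simp
      | tmul b x =>
        rw [Dieu.bcQuotMap_tmul, Dieu.BC.lift_tmul, Dieu.BC.lift_tmul, Submodule.mkQ_apply,
          Submodule.liftQ_apply, smul_eq_mul, smul_eq_mul, map_mul]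
        rfl
      | add z₁ z₂ h₁ h₂ => simp only [map_add, h₁, h₂]
    have h3 := h2 z
    rw [LinearMap.mem_ker.1 hz, map_zero] at h3
    rw [← eq_verschiebung_shift (x := coord j z) h3.symm]
    exact verschiebung_mem_IV p R _
  have key : ∀ w, w - ∑ j, coord j w • Dieu.BC.tmul Wf 1 (g j) ∈
      Submodule.span (WittVector p R) (Set.range fun y : D.Q => Dieu.BC.tmul Wf 1 (y : P)) := fun w => by
    induction w using Dieu.BC.induction_on with
    | zero => simp
    | tmul b x =>
      have h : ∑ j, coord j (Dieu.BC.tmul Wf b x) • Dieu.BC.tmul Wf 1 (g j) = Dieu.BC.tmul Wf b (πT x) := by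
        conv_rhs => rw [← hφ (πT x), Dieu.BC.tmul_eq_smul_tmul_one,
          show Dieu.BC.tmul Wf 1 (∑ j, φ j (πT x) • g j) = Dieu.BC.ι Wf P (∑ j, φ j (πT x) • g j) from rfl, map_sum,
          Finset.smul_sum]
        refine Finset.sum_congr rfl fun j _ => ?_
        rw [Dieu.BC.lift_tmul, smul_eq_mul, mul_smul, map_smulₛₗ]
        rfl
      rw [h, sub_eq_add_neg, ← Dieu.BC.tmul_neg, ← Dieu.BC.tmul_add, ← sub_eq_add_neg, Dieu.BC.tmul_eq_smul_tmul_one]
      exact Submodule.smul_mem _ _ (Submodule.subset_span ⟨⟨_, hL (hπT x)⟩, rfl⟩)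
    | add w₁ w₂ h₁ h₂ =>
      simp only [map_add, add_smul, Finset.sum_add_distrib, add_sub_add_comm]
      exact add_mem h₁ h₂
  exact Submodule.mem_sup.2 ⟨_, key z, _,
    Submodule.sum_mem _ fun j _ => Submodule.smul_mem_smul (hmem j) Submodule.mem_top, sub_add_cancel _ _⟩

theorem isDisplay_of_isDispBaseChange (D : Display3n p S P) (hD : Dieu.IsDisplay D)
    (DR : Display3n p R (Dieu.BC Wf P)) (hDR : Dieu.IsDispBaseChange f D DR) : Dieu.IsDisplay DR := by
  obtain ⟨Vs, hVs, n, hn⟩ := hD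
  let J : Dieu.BC (WittVector.frobenius : WittVector p S →+* _) P →ₛₗ[Wf]
      Dieu.BC (WittVector.frobenius : WittVector p R →+* _) (Dieu.BC Wf P) := bcComm Wf (frobenius_comp_map f)
  let VsR := Dieu.BC.lift Wf (J.comp Vs)
  have h1 : ∀ x, VsR (Dieu.BC.tmul Wf 1 x) = J (Vs x) := fun x => by
    rw [Dieu.BC.lift_tmul, one_smul]; rfl
  have hF : ∀ z, VsR (DR.F z) = (p : WittVector p R) • Dieu.BC.tmul _ 1 z := fun z => by
    refine LinearMap.congr_fun (bc_semilinear_ext (g := Wf) (f₁ := VsR.comp DR.F)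
      (f₂ := (p : WittVector p R) • Dieu.BC.ι _ _) fun x => ?_) z
    rw [LinearMap.comp_apply, hDR.F_tmul, map_one, h1, LinearMap.smul_apply]
    have h := hVs.app_smul_F 1 x
    rw [one_smul] at h
    rw [h, map_smulₛₗ, map_natCast, bcComm_tmul, map_one]
    rfl
  refine ⟨VsR, isVSharp_mk DR VsR hF (fun z => ?_), ?_⟩
  · have hIV' : ∀ u ∈ IV p R • (⊤ : Submodule (WittVector p R) (Dieu.BC Wf P)), ∃ h : u ∈ DR.Q,
        VsR (DR.Vinv ⟨u, h⟩) = Dieu.BC.tmul _ 1 u := fun u hu => by
      refine Submodule.smul_induction_on hu (fun a ha w _ => ?_) (fun x y hx hy => ?_)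
      · obtain ⟨t, rfl⟩ := exists_eq_verschiebung_of_mem_IV ha
        refine ⟨DR.IV_smul_le (Submodule.smul_mem_smul ha Submodule.mem_top), ?_⟩
        rw [DR.Vinv_verschiebung_smul, map_smul, hF, ← Dieu.BC.tmul_apply_eq, WittVector.frobenius_verschiebung,
          Dieu.BC.smul_tmul, Dieu.BC.smul_tmul, mul_one]
      · obtain ⟨a, a'⟩ := hx
        obtain ⟨b, b'⟩ := hy
        refine ⟨add_mem a b, ?_⟩
        rw [Dieu.BC.tmul_add, ← a', ← b', ← map_add, ← map_add]
        rfl
    have hz := Q_le_span f D (hDR.Q_eq ▸ z.2 : (z : Dieu.BC Wf P) ∈ LinearMap.ker (Dieu.bcQuotMap f D.Q))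
    obtain ⟨u, hu, w, hw, huw⟩ := Submodule.mem_sup.1 hz
    have huw' := huw
    clear huw
    obtain ⟨hwQ, hw'⟩ := hIV' w hw
    revert huw'
    have hu' : ∃ h : u ∈ DR.Q, VsR (DR.Vinv ⟨u, h⟩) = Dieu.BC.tmul _ 1 u := by
      induction hu using Submodule.span_induction with
      | mem x hx =>
        obtain ⟨y, rfl⟩ := hx
        have hm : Dieu.BC.tmul Wf 1 (y : P) ∈ DR.Q := by
          rw [hDR.Q_eq, LinearMap.mem_ker, Dieu.bcQuotMap_tmul, Submodule.mkQ_apply,
            (Submodule.Quotient.mk_eq_zero _).2 y.2, Dieu.BC.tmul_zero]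
        refine ⟨hm, ?_⟩
        rw [hDR.Vinv_tmul 1 y hm, map_one, h1]
        have h := hVs.app_smul_Vinv 1 y
        rw [one_smul] at h
        rw [h, bcComm_tmul, map_one]
      | zero => exact ⟨zero_mem _, by rw [Dieu.BC.tmul_zero]; exact (congrArg VsR (map_zero DR.Vinv)).trans (map_zero _)⟩
      | add x y _ _ hx hy =>
        obtain ⟨a, a'⟩ := hx
        obtain ⟨b, b'⟩ := hy
        refine ⟨add_mem a b, ?_⟩
        rw [Dieu.BC.tmul_add, ← a', ← b', ← map_add, ← map_add]
        rfl
      | smul c x _ hx =>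
        obtain ⟨a, a'⟩ := hx
        refine ⟨Submodule.smul_mem _ c a, ?_⟩
        rw [← Dieu.BC.tmul_apply_eq, Dieu.BC.tmul_eq_smul_tmul_one, ← a', ← map_smul]
        exact congrArg VsR (map_smulₛₗ DR.Vinv c ⟨x, a⟩)
    obtain ⟨huQ, hu''⟩ := hu'
    intro huw'
    have e : z = ⟨u, huQ⟩ + ⟨w, hwQ⟩ := Subtype.ext huw'.symm
    rw [e, map_add, map_add, hu'', hw', ← Dieu.BC.tmul_add]
    rfl
  · have hpow : ∀ (m : ℕ) (x : P), Dieu.vSharpPow VsR m (Dieu.BC.tmul Wf 1 x)
        = bcComm Wf (pow_comp_comm Wf (frobenius_comp_map f) (m + 1)) (Dieu.vSharpPow Vs m x) := by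
      intro m
      induction m with
      | zero =>
        intro x
        rw [Dieu.vSharpPow_zero_apply, Dieu.vSharpPow_zero_apply, h1]
        generalize Vs x = t
        induction t using Dieu.BC.induction_on with
        | zero => simp
        | tmul a y => rw [bcComm_tmul, Dieu.BC.castHom_tmul, Dieu.BC.castHom_tmul, bcComm_tmul]
        | add t₁ t₂ e₁ e₂ => simp only [map_add, e₁, e₂]
      | succ m ih =>
        intro x
        rw [Dieu.vSharpPow_succ_apply, Dieu.vSharpPow_succ_apply, h1]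
        generalize Vs x = t
        induction t using Dieu.BC.induction_on with
        | zero => simp
        | tmul a y =>
          rw [bcComm_tmul, Dieu.BC.map_tmul, Dieu.BC.map_tmul, ih, Dieu.BC.lift_tmul, Dieu.BC.lift_tmul]
          generalize Dieu.vSharpPow Vs m y = s
          induction s using Dieu.BC.induction_on with
          | zero => simp
          | tmul b w =>
            rw [bcComm_tmul, Dieu.BC.push_tmul, Dieu.BC.push_tmul, Dieu.BC.smul_tmul, Dieu.BC.smul_tmul,
              Dieu.BC.castHom_tmul, Dieu.BC.castHom_tmul, bcComm_tmul, map_mul]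
            refine congrArg (fun c => Dieu.BC.tmul _ (Wf a * c) (Dieu.BC.tmul Wf 1 w)) ?_
            exact RingHom.congr_fun (frobenius_comp_map f) b
          | add s₁ s₂ e₁ e₂ => simp only [map_add, smul_add, e₁, e₂]
        | add t₁ t₂ e₁ e₂ => simp only [map_add, e₁, e₂]
    refine ⟨n, fun z => ?_⟩
    induction z using Dieu.BC.induction_on with
    | zero => rw [map_zero]; exact zero_mem _
    | add z₁ z₂ e₁ e₂ => rw [map_add]; exact add_mem e₁ e₂
    | tmul b x =>
      rw [Dieu.BC.tmul_eq_smul_tmul_one, map_smul, hpow]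
      refine Submodule.smul_mem _ _ ?_
      refine Submodule.smul_induction_on (hn x) (fun a ha t _ => ?_) (fun t₁ t₂ e₁ e₂ => ?_)
      · rw [map_smulₛₗ]
        refine Submodule.smul_mem_smul ?_ Submodule.mem_top
        obtain ⟨u, hu, v, hv, rfl⟩ := Submodule.mem_sup.1 ha
        obtain ⟨c, rfl⟩ := Ideal.mem_span_singleton'.1 hv
        rw [map_add, map_mul, map_natCast]
        exact Submodule.add_mem_sup (map_mem_IV f hu) (Ideal.mem_span_singleton'.2 ⟨_, rfl⟩)
      · rw [map_add]; exact add_mem e₁ e₂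

end GrothLib.DispRigid
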