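import Mathlib

/-!
# Splittings of filtrations over an adically complete ring
-/

universe u v w

namespace GrothLib.DispRigid

open Polynomial

theorem idem_surjOn {S : Type u} [CommRing S] (J : Ideal S) [IsAdicComplete J S] {b : S} (hb : b * b - b ∈ J) :
    ∃ e : S, IsIdempotentElem e ∧ e - b ∈ J := by
  have hmonic : ((X : S[X]) ^ 2 - X).Monic :=
    monic_X_pow_sub (by exact degree_X_le.trans_lt (by norm_num))
  obtain ⟨e, he, heb⟩ := HenselianRing.is_henselian (R := S) (I := J) _ hmonic b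
    (by simpa [sq] using hb) (by
      have h2 : (2 * b - 1) * (2 * b - 1) - 1 ∈ J := by
        rw [show (2 * b - 1) * (2 * b - 1) - 1 = 4 * (b * b - b) by ring]
        exact J.mul_mem_left _ hb
      refine IsUnit.of_mul_eq_one (Ideal.Quotient.mk J (2 * b - 1)) ?_
      rw [← map_mul, ← map_one (Ideal.Quotient.mk J), Ideal.Quotient.eq]
      simpa [one_add_one_eq_two] using h2)
  refine ⟨e, ?_, heb⟩
  rw [IsIdempotentElem, ← sub_eq_zero]
  simpa [IsRoot, sq] using he

variable {A : Type u} [CommRing A] (I : Ideal A)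

theorem mem_smul_top_map {M : Type v} {N : Type w} [AddCommGroup M] [Module A M] [AddCommGroup N] [Module A N]
    (J : Ideal A) (f : M →ₗ[A] N) {x : M} (hx : x ∈ J • (⊤ : Submodule A M)) : f x ∈ J • (⊤ : Submodule A N) := by
  refine Submodule.smul_induction_on hx (fun a ha t _ => ?_) (fun a b ha hb => ?_)
  · rw [map_smul]; exact Submodule.smul_mem_smul ha Submodule.mem_top
  · rw [map_add]; exact add_mem ha hb

theorem isPrecomplete_pi [IsPrecomplete I A] (n : ℕ) : IsPrecomplete I (Fin n → A) := by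
  refine ⟨fun f hf => ?_⟩
  have hc : ∀ j, ∃ L : A, ∀ i, f i j ≡ L [SMOD (I ^ i • ⊤ : Submodule A A)] := fun j => by
    refine IsPrecomplete.prec' (fun i => f i j) fun {a b} hab => ?_
    have h := SModEq.sub_mem.1 (hf hab)
    rw [SModEq.sub_mem]
    exact mem_smul_top_map (I ^ a) (LinearMap.proj j) h
  choose L hL using hc
  refine ⟨L, fun i => SModEq.sub_mem.2 ?_⟩
  rw [pi_eq_sum_univ' (f i - L)]
  refine Submodule.sum_mem _ fun j _ => Submodule.smul_mem_smul ?_ Submodule.mem_top
  have h := SModEq.sub_mem.1 (hL j i)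
  simpa using h

theorem isPrecomplete_of_surjective {M : Type v} {N : Type w} [AddCommGroup M] [Module A M] [AddCommGroup N]
    [Module A N] [IsPrecomplete I M] (f : M →ₗ[A] N) (hf : Function.Surjective f) : IsPrecomplete I N := by
  refine AdicCompletion.of_surjective_iff.1 fun y => ?_
  obtain ⟨x, rfl⟩ := AdicCompletion.map_surjective I hf y
  obtain ⟨m, rfl⟩ := AdicCompletion.of_surjective I M x
  exact ⟨f m, (AdicCompletion.map_of I f m).symm⟩

theorem exists_idempotent_endo [IsAdicComplete I A] {P : Type v} [AddCommGroup P] [Module A P]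
    [Module.Finite A P] [Module.Projective A P] (e₀ : Module.End A P)
    (h : ∀ x, e₀ (e₀ x) - e₀ x ∈ I • (⊤ : Submodule A P)) :
    ∃ e : Module.End A P, IsIdempotentElem e ∧ ∀ x, e x - e₀ x ∈ I • (⊤ : Submodule A P) := by
  let S : Subalgebra A (Module.End A P) := Algebra.adjoin A {e₀}
  letI : CommRing S := Algebra.adjoinCommRingOfComm A (by rintro a rfl b rfl; rfl)
  haveI : Module.Finite A S := Module.Finite.iff_fg.2 (IsIntegral.fg_adjoin_singleton (by
    obtain ⟨q, hq1, hq2⟩ := LinearMap.exists_monic_and_aeval_eq_zero A e₀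
    exact ⟨q, hq1, by rw [← aeval_def]; exact hq2⟩))
  obtain ⟨n, q, hq⟩ := Module.Finite.exists_fin' A S
  haveI := isPrecomplete_pi I n
  haveI : IsPrecomplete I S := isPrecomplete_of_surjective I q hq
  have hIS : ∀ (J : Ideal A) (s : S), s ∈ J • (⊤ : Submodule A S) → ∀ x, (s : Module.End A P) x ∈ J • (⊤ : Submodule A P) := by
    intro J s hs x
    refine Submodule.smul_induction_on hs (fun a ha t _ => ?_) (fun a b ha hb => ?_)
    · exact Submodule.smul_mem_smul ha Submodule.mem_top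
    · exact add_mem ha hb
  haveI : IsHausdorff I S := ⟨fun s hs => Subtype.ext (LinearMap.ext fun x => by
    obtain ⟨m, a, b, hab⟩ := Module.Finite.exists_comp_eq_id_of_projective A P
    have h0 : b ((s : Module.End A P) x) = 0 := by
      funext j
      refine IsHausdorff.haus' (I := I) _ fun i => ?_
      have h1 := hIS (I ^ i) s (SModEq.zero.1 (hs i)) x
      rw [SModEq.zero]
      exact mem_smul_top_map (I ^ i) ((LinearMap.proj j).comp b) h1
    have h1 := congrArg a h0
    rw [map_zero] at h1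
    exact (LinearMap.congr_fun hab.2.2 _).symm.trans h1)⟩
  haveI : IsAdicComplete I S := {}
  let J : Ideal S := I.map (algebraMap A S)
  haveI : IsAdicComplete J S := (IsAdicComplete.map_algebraMap_iff _ _).2 ‹_›
  have hJ : ∀ s ∈ J, ∀ x, (s : Module.End A P) x ∈ I • (⊤ : Submodule A P) := fun s hs => by
    refine hIS I s ?_
    rw [Ideal.smul_top_eq_map]
    exact hs
  let b : S := ⟨e₀, Algebra.self_mem_adjoin_singleton A e₀⟩
  obtain ⟨χ, hχm, -, hχc, hχ0⟩ := LinearMap.exists_monic_and_coeff_mem_pow_and_aeval_eq_zero_of_range_le_smul A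
    ((e₀ * e₀ - e₀ : Module.End A P)) I (by rintro _ ⟨x, rfl⟩; exact h x)
  let δ : S := b * b - b
  have hδ : δ ^ χ.natDegree ∈ J := by
    have hz : aeval δ χ = 0 := Subtype.ext <| by
      rw [show ((aeval δ χ : S) : Module.End A P) = aeval (δ : Module.End A P) χ from
        (aeval_algHom_apply S.val δ χ).symm]
      exact hχ0
    rw [aeval_eq_sum_range, Finset.sum_range_succ, hχm.coeff_natDegree, one_smul, add_eq_zero_iff_eq_neg'] at hz
    rw [hz]
    refine J.neg_mem (J.sum_mem fun i hi => ?_)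
    rw [Algebra.smul_def]
    exact J.mul_mem_right _ (Ideal.mem_map_of_mem _
      (Ideal.pow_le_self (Nat.sub_ne_zero_of_lt (Finset.mem_range.1 hi)) (hχc i)))
  obtain ⟨c, hc, hcb⟩ : ∃ c : S, c * c - c ∈ J ∧ c - b ∈ Ideal.span {δ} ⊔ J := by
    let J' := Ideal.span {δ} ⊔ J
    let g : S ⧸ J →+* S ⧸ J' := Ideal.Quotient.factor le_sup_right
    have hg : ∀ x ∈ RingHom.ker g, IsNilpotent x := fun x hx => by
      obtain ⟨s, rfl⟩ := Ideal.Quotient.mk_surjective x
      rw [RingHom.mem_ker, Ideal.Quotient.factor_mk, Ideal.Quotient.eq_zero_iff_mem] at hx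
      obtain ⟨u, hu, v, hv, rfl⟩ := Submodule.mem_sup.1 hx
      obtain ⟨t, rfl⟩ := Ideal.mem_span_singleton'.1 hu
      refine ⟨χ.natDegree, ?_⟩
      rw [map_add, Ideal.Quotient.eq_zero_iff_mem.2 hv, add_zero, ← map_pow, Ideal.Quotient.eq_zero_iff_mem, mul_pow]
      exact J.mul_mem_left _ hδ
    have hbar : IsIdempotentElem (g (Ideal.Quotient.mk J b)) := by
      rw [IsIdempotentElem, Ideal.Quotient.factor_mk, ← map_mul]
      exact Ideal.Quotient.eq.2 (Ideal.mem_sup_left (Ideal.mem_span_singleton_self δ))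
    obtain ⟨c', hc'i, hc'⟩ := exists_isIdempotentElem_eq_of_ker_isNilpotent g hg _ ⟨_, rfl⟩ hbar
    obtain ⟨c, rfl⟩ := Ideal.Quotient.mk_surjective c'
    rw [Ideal.Quotient.factor_mk, Ideal.Quotient.factor_mk, Ideal.Quotient.eq] at hc'
    exact ⟨c, Ideal.Quotient.eq.1 ((map_mul _ _ _).trans hc'i), hc'⟩
  obtain ⟨e, he, hec⟩ := idem_surjOn J hc
  refine ⟨e, congrArg Subtype.val he, fun x => ?_⟩
  obtain ⟨u, hu, v, hv, huv⟩ := Submodule.mem_sup.1 hcb
  obtain ⟨t, rfl⟩ := Ideal.mem_span_singleton'.1 hu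
  have e1 : (e : Module.End A P) x - e₀ x
      = ((e - c : S) : Module.End A P) x + ((t * δ : S) : Module.End A P) x + (v : Module.End A P) x := by
    have : e - b = (e - c) + t * δ + v := by rw [add_assoc, huv]; ring
    exact (LinearMap.congr_fun (congrArg Subtype.val this) x)
  rw [e1]
  refine add_mem (add_mem (hJ _ hec x) ?_) (hJ _ hv x)
  show (t : Module.End A P) ((δ : Module.End A P) x) ∈ _
  exact mem_smul_top_map I (t : Module.End A P) (h x)

/-- A filtration `I P ⊆ Q ⊆ P` split modulo `I` splits. -/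
theorem exists_isCompl [IsAdicComplete I A] {P : Type v} [AddCommGroup P] [Module A P] [Module.Finite A P]
    [Module.Projective A P] (Q C : Submodule A P) (h1 : Q ⊔ C = ⊤) (h2 : Q ⊓ C = I • (⊤ : Submodule A P)) :
    ∃ L T : Submodule A P, IsCompl L T ∧ Q = L ⊔ I • T := by
  let π := (I • (⊤ : Submodule A P)).mkQ
  have hker : ∀ x, π x = 0 ↔ x ∈ I • (⊤ : Submodule A P) := fun x => Submodule.Quotient.mk_eq_zero _
  have hIQ : I • (⊤ : Submodule A P) ≤ Q := h2 ▸ inf_le_left
  have hIC : I • (⊤ : Submodule A P) ≤ C := h2 ▸ inf_le_right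
  have hcompl : IsCompl (C.map π) (Q.map π) := by
    constructor
    · rw [Submodule.disjoint_def]
      rintro _ ⟨c, hc, rfl⟩ ⟨q, hq, hqc⟩
      have : q - c ∈ I • (⊤ : Submodule A P) := (Submodule.Quotient.eq _).1 hqc
      have hcQ : c ∈ Q := by simpa using Q.sub_mem hq (hIQ this)
      exact (hker c).2 (h2 ▸ ⟨hcQ, hc⟩)
    · rw [codisjoint_iff, ← Submodule.map_sup, sup_comm, h1, Submodule.map_top, Submodule.range_mkQ]
  let pr : (P ⧸ I • (⊤ : Submodule A P)) →ₗ[A] P ⧸ I • (⊤ : Submodule A P) :=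
    (C.map π).subtype.comp ((C.map π).projectionOnto (Q.map π) hcompl)
  have pr1 : ∀ z, pr (pr z) = pr z := fun z =>
    congrArg Subtype.val (Submodule.projectionOnto_apply_left hcompl ((C.map π).projectionOnto (Q.map π) hcompl z))
  have pr0 : ∀ z, pr z = 0 ↔ z ∈ Q.map π := fun z => by
    show (((C.map π).projectionOnto (Q.map π) hcompl z : C.map π) : P ⧸ I • (⊤ : Submodule A P)) = 0 ↔ _
    rw [Submodule.coe_eq_zero, Submodule.projectionOnto_apply_eq_zero_iff]
  obtain ⟨e₀, he₀⟩ := Module.projective_lifting_property π (pr.comp π) (Submodule.mkQ_surjective _)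
  have he₀' : ∀ x, π (e₀ x) = pr (π x) := fun x => LinearMap.congr_fun he₀ x
  obtain ⟨e, he, hee⟩ := exists_idempotent_endo I e₀ fun x => (hker _).1 (by
    rw [map_sub, he₀', he₀', pr1, sub_self])
  have hπe : ∀ x, π (e x) = pr (π x) := fun x => by
    rw [← he₀', ← sub_eq_zero, ← map_sub]; exact (hker _).2 (hee x)
  have hi : ∀ x, e (e x) = e x := fun x => LinearMap.congr_fun he x
  refine ⟨LinearMap.ker e, LinearMap.range e, (LinearMap.IsIdempotentElem.isCompl he).symm, le_antisymm (fun y hy => ?_) ?_⟩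
  · refine Submodule.mem_sup.2 ⟨y - e y, ?_, e y, ?_, sub_add_cancel _ _⟩
    · rw [LinearMap.mem_ker, map_sub, hi, sub_self]
    · have h : e y ∈ I • (⊤ : Submodule A P) := (hker _).1 ((hπe y).trans ((pr0 _).2 ⟨y, hy, rfl⟩))
      rw [← hi, LinearMap.range_eq_map, ← Submodule.map_smul'']
      exact Submodule.mem_map_of_mem h
  · refine sup_le (fun y hy => ?_) ((Submodule.smul_mono le_rfl le_top).trans hIQ)
    obtain ⟨q, hq, hqy⟩ : π y ∈ Q.map π := (pr0 _).1 (by rw [← hπe, LinearMap.mem_ker.1 hy, map_zero])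
    have : q - y ∈ I • (⊤ : Submodule A P) := (Submodule.Quotient.eq _).1 hqy
    simpa using Q.sub_mem hq (hIQ this)

end GrothLib.DispRigid
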