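import Groth.Prelude.Def_Disp2
import Groth.Agent.Lib.DispRigid.Witt
import Groth.Agent.Lib.DispRigid.BCKer
import Mathlib

/-!
# Displays attached to Dieudonné modules over a perfect ring
-/

universe u v

namespace GrothLib.DispRigid

open W4c1extbt610

variable {p : ℕ} [Fact p.Prime] {k : Type u} [CommRing k] [CharP k p] [PerfectRing k p]

local notation "W" => WittVector p k
local notation "σ" => (WittVector.frobenius : WittVector p k →+* WittVector p k)

theorem IV_eq_span_p : IV p k = Ideal.span {(p : W)} := by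
  refine le_antisymm (fun x hx => ?_) (Ideal.span_le.2 ?_)
  · obtain ⟨u, hu⟩ : ∃ u, σ u = x.shift 1 := (WittVector.frobenius_bijective p k).2 _
    rw [← eq_verschiebung_shift (coeff_zero_eq_zero_of_mem_IV hx), ← hu, WittVector.verschiebung_frobenius]
    exact Ideal.mem_span_singleton'.2 ⟨u, rfl⟩
  · rintro _ rfl
    have h : (p : W) = WittVector.verschiebung (σ 1) := by rw [WittVector.verschiebung_frobenius, one_mul]
    rw [SetLike.mem_coe, h]
    exact verschiebung_mem_IV p k _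

variable {M : Type v} [AddCommGroup M] [Module (WittVector p k) M]

theorem vSharp_dieu (Dm : Dieu.DieuMod p k M) (D : Display3n p k M)
    (hF : D.F = Dm.F) (hQ : ∀ x : M, x ∈ D.Q ↔ x ∈ Set.range Dm.V)
    (hV : ∀ (m : M) (h : Dm.V m ∈ D.Q), D.Vinv ⟨Dm.V m, h⟩ = m) :
    ∃ Vs : M →ₗ[W] Dieu.BC σ M, Dieu.IsVSharp D Vs ∧ ∀ m, Vs m = Dieu.BC.tmul σ 1 (Dm.V m) := by
  let Vs : M →ₗ[W] Dieu.BC σ M :=
    { toFun := fun m => Dieu.BC.tmul σ 1 (Dm.V m)
      map_add' := fun x y => by rw [map_add, Dieu.BC.tmul_add]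
      map_smul' := fun a m => by
        rw [map_smulₛₗ, ← Dieu.BC.tmul_apply_eq, RingHom.id_apply, Dieu.BC.smul_tmul, mul_one]
        exact congrArg (fun c => Dieu.BC.tmul σ c (Dm.V m)) ((WittVector.frobeniusEquiv p k).apply_symm_apply a) }
  refine ⟨Vs, ⟨fun w x => ?_, fun w y => ?_⟩, fun m => rfl⟩
  · rw [map_smul]
    show w • Dieu.BC.tmul σ 1 (Dm.V (D.F x)) = _
    rw [hF, Dm.V_F, ← Dieu.BC.tmul_apply_eq, map_natCast, Dieu.BC.smul_tmul, Dieu.BC.smul_tmul, mul_comm]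
  · obtain ⟨m, hm⟩ := (hQ _).1 y.2
    have h : D.Vinv y = m := by
      rw [show y = ⟨Dm.V m, hm ▸ y.2⟩ from Subtype.ext hm.symm, hV]
    rw [map_smul, h]
    show w • Dieu.BC.tmul σ 1 (Dm.V m) = _
    rw [hm, Dieu.BC.smul_tmul, mul_one]

theorem vSharpPow_dieu (Dm : Dieu.DieuMod p k M) (Vs : M →ₗ[W] Dieu.BC σ M)
    (hVs : ∀ m, Vs m = Dieu.BC.tmul σ 1 (Dm.V m)) :
    ∀ (n : ℕ) (m : M), Dieu.vSharpPow Vs n m = Dieu.BC.tmul (σ ^ (n + 1)) 1 ((⇑Dm.V)^[n + 1] m)
  | 0, m => by rw [Dieu.vSharpPow_zero_apply, hVs, Dieu.BC.castHom_tmul]; rfl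
  | n + 1, m => by
    rw [Dieu.vSharpPow_succ_apply, hVs, Dieu.BC.map_tmul, vSharpPow_dieu Dm Vs hVs n, Dieu.BC.lift_tmul, one_smul,
      Dieu.BC.push_tmul, map_one, Dieu.BC.castHom_tmul, ← Function.iterate_succ_apply]

theorem mem_p_smul_of_one_tmul_mem (n : ℕ) (x : M)
    (h : Dieu.BC.tmul (σ ^ n) 1 x ∈ (Ideal.span {(p : W)}) • (⊤ : Submodule W (Dieu.BC (σ ^ n) M))) :
    x ∈ Ideal.span {(p : W)} • (⊤ : Submodule W M) := by
  let q : W →+* W ⧸ Ideal.span {(p : W)} := Ideal.Quotient.mk _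
  have hbij : ∀ n : ℕ, Function.Bijective (σ ^ n : W →+* W) := fun n => by
    induction n with
    | zero => exact Function.bijective_id
    | succ n ih =>
      rw [← Dieu.comp_pow_eq_pow_succ, RingHom.coe_comp]
      exact (WittVector.frobenius_bijective p k).comp ih
  have h0 : Dieu.BC.tmul (q.comp (σ ^ n)) 1 x = 0 := by
    rw [← map_one q, ← Dieu.BC.push_tmul]
    refine Submodule.smul_induction_on h (fun a ha t _ => ?_) (fun a b ha hb => ?_)
    · rw [map_smulₛₗ, Ideal.Quotient.eq_zero_iff_mem.2 ha, zero_smul]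
    · rw [map_add, ha, hb, add_zero]
  have hs : Function.Surjective (q.comp (σ ^ n)) := by
    rw [RingHom.coe_comp]; exact Ideal.Quotient.mk_surjective.comp (hbij n).2
  refine Submodule.smul_mono_left ?_ (mem_of_one_tmul_eq_zero _ hs h0)
  intro a ha
  rw [RingHom.mem_ker, RingHom.comp_apply, Ideal.Quotient.eq_zero_iff_mem] at ha
  obtain ⟨c, hc⟩ := Ideal.mem_span_singleton'.1 ha
  obtain ⟨d, rfl⟩ := (hbij n).2 c
  refine Ideal.mem_span_singleton'.2 ⟨d, (hbij n).1 ?_⟩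
  rw [map_mul, map_natCast, hc]

theorem isDisplay_iff_vTopNilp (Dm : Dieu.DieuMod p k M) (D : Display3n p k M)
    (hF : D.F = Dm.F) (hQ : ∀ x : M, x ∈ D.Q ↔ x ∈ Set.range Dm.V)
    (hV : ∀ (m : M) (h : Dm.V m ∈ D.Q), D.Vinv ⟨Dm.V m, h⟩ = m) :
    Dieu.IsDisplay D ↔ Dm.VTopNilp := by
  obtain ⟨Vs, hVs, hVs'⟩ := vSharp_dieu Dm D hF hQ hV
  have hJ : IV p k ⊔ Ideal.span {(p : W)} = Ideal.span {(p : W)} := by rw [IV_eq_span_p, sup_idem]
  constructor
  · rintro ⟨Vs', hVs'', n, hn⟩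
    obtain rfl : Vs' = Vs := LinearMap.ext_on D.span_range_Vinv (by
      rintro _ ⟨y, rfl⟩
      have h1 := hVs''.app_smul_Vinv 1 y
      have h2 := hVs.app_smul_Vinv 1 y
      rw [one_smul] at h1 h2
      rw [h1, h2])
    have h1 : ∀ m, (⇑Dm.V)^[n + 1] m ∈ Ideal.span {(p : W)} • (⊤ : Submodule W M) := fun m => by
      refine mem_p_smul_of_one_tmul_mem (n + 1) _ ?_
      rw [← vSharpPow_dieu Dm Vs' hVs' n m]
      simpa [hJ] using hn m
    intro e
    refine ⟨e * (n + 1), ?_⟩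
    induction e with
    | zero => intro m; simp
    | succ e ih =>
      intro m
      rw [add_mul, one_mul, Function.iterate_add_apply]
      refine Submodule.smul_induction_on (h1 m) (fun a ha t _ => ?_) (fun a b ha hb => ?_)
      · obtain ⟨c, rfl⟩ := Ideal.mem_span_singleton'.1 ha
        have key : ∀ j : ℕ, ∃ c', (⇑Dm.V)^[j] ((c * (p : W)) • t) = (c' * (p : W)) • (⇑Dm.V)^[j] t := fun j => by
          induction j with
          | zero => exact ⟨c, rfl⟩
          | succ j ih =>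
            obtain ⟨c', hc'⟩ := ih
            refine ⟨((WittVector.frobeniusEquiv p k).symm : W →+* W) c', ?_⟩
            rw [Function.iterate_succ_apply', hc', map_smulₛₗ, map_mul, map_natCast, Function.iterate_succ_apply']
        obtain ⟨c', hc'⟩ := key (e * (n + 1))
        rw [hc', pow_succ' (Ideal.span {(p : W)}) e, Submodule.mul_smul]
        exact Submodule.smul_mem_smul (Ideal.mem_span_singleton'.2 ⟨c', rfl⟩) (ih t)
      · rw [iterate_map_add]; exact add_mem ha hb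
  · intro h
    obtain ⟨N, hN⟩ := h 1
    refine ⟨Vs, hVs, N, fun x => ?_⟩
    rw [vSharpPow_dieu Dm Vs hVs' N x, Function.iterate_succ_apply]
    have h1 : (⇑Dm.V)^[N] (Dm.V x) ∈ Ideal.span {(p : W)} • (⊤ : Submodule W M) := by simpa using hN (Dm.V x)
    rw [hJ]
    refine Submodule.smul_induction_on h1 (fun a ha t _ => ?_) (fun a b ha hb => ?_)
    · obtain ⟨c, rfl⟩ := Ideal.mem_span_singleton'.1 ha
      rw [← Dieu.BC.tmul_apply_eq, Dieu.BC.tmul_eq_smul_tmul_one, map_mul, map_natCast]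
      exact Submodule.smul_mem_smul (Ideal.mem_span_singleton'.2 ⟨_, rfl⟩) Submodule.mem_top
    · rw [Dieu.BC.tmul_add]; exact add_mem ha hb

end GrothLib.DispRigid
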