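import Groth.Agent.Lib.DispRigid.LevelOne
import Groth.Agent.Lib.DispRigid.Normal
import Groth.Agent.Lib.DispRigid.PerfectDieu
import Groth.Agent.S14855
import Mathlib

/-!
# The 3n-display of a Dieudonné module over a perfect ring
-/

universe u v

namespace GrothLib.DispRigid

variable {p : ℕ} [Fact p.Prime] {k : Type u} [CommRing k] [CharP k p] [PerfectRing k p]

local notation "W" => WittVector p k
local notation "pI" => Ideal.span {(p : WittVector p k)}

variable {M : Type v} [AddCommGroup M] [Module (WittVector p k) M]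

omit [CharP k p] [PerfectRing k p] in
theorem exists_retract_bot [Module.Finite W M] [Module.Projective W M] :
    ∃ (m : ℕ) (ι : M →ₗ[W] Fin m → W ⧸ (⊥ : Ideal W)) (π : (Fin m → W ⧸ (⊥ : Ideal W)) →ₗ[W] M),
      π.comp ι = LinearMap.id := by
  obtain ⟨m, a, b, hab⟩ := Module.Finite.exists_comp_eq_id_of_projective W M
  let e : (Fin m → W ⧸ (⊥ : Ideal W)) ≃ₗ[W] (Fin m → W) :=
    LinearEquiv.piCongrRight fun _ => Submodule.quotEquivOfEqBot _ rfl
  exact ⟨m, e.symm.toLinearMap.comp b, a.comp e.toLinearMap, LinearMap.ext fun x => by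
    show a (e (e.symm (b x))) = x
    rw [e.apply_symm_apply]
    exact LinearMap.congr_fun hab.2.2 x⟩

theorem eq_zero_of_p_smul [Module.Finite W M] [Module.Projective W M] {x : M} (h : (p : W) • x = 0) : x = 0 := by
  obtain ⟨m, a, b, hab⟩ := Module.Finite.exists_comp_eq_id_of_projective W M
  have hb : b x = 0 := funext fun j => eq_zero_of_mul_p <| by
    have := congrFun ((map_smul b (p : W) x).symm.trans (by rw [h, map_zero])) j
    rw [Pi.smul_apply, smul_eq_mul, mul_comm] at this
    exact this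
  rw [← LinearMap.id_apply (R := W) x, ← LinearMap.congr_fun hab.2.2 x, LinearMap.comp_apply, hb, map_zero]

theorem exists_display3n [Module.Finite W M] [Module.Projective W M]
    (F : M →ₛₗ[(WittVector.frobenius : W →+* W)] M)
    (V : M →ₛₗ[((WittVector.frobeniusEquiv p k).symm : W →+* W)] M)
    (hFV : ∀ m : M, F (V m) = (p : W) • m) (hVF : ∀ m : M, V (F m) = (p : W) • m) :
    ∃ D : W4c1extbt610.Display3n p k M,
      D.F = F ∧ (∀ x : M, x ∈ D.Q ↔ x ∈ Set.range V) ∧
        ∀ (m : M) (h : V m ∈ D.Q), D.Vinv ⟨V m, h⟩ = m := by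
  have hinj : Function.Injective V := fun a b hab => sub_eq_zero.1 <| eq_zero_of_p_smul (p := p) <| by
    rw [← hFV, map_sub, hab, sub_self, map_zero]
  have hσ : ∀ a : W, ((WittVector.frobeniusEquiv p k).symm : W →+* W) (WittVector.frobenius a) = a :=
    (WittVector.frobeniusEquiv p k).symm_apply_apply
  let Q : Submodule W M :=
    { carrier := Set.range V
      add_mem' := by rintro _ _ ⟨a, rfl⟩ ⟨b, rfl⟩; exact ⟨a + b, map_add V a b⟩
      zero_mem' := ⟨0, map_zero V⟩
      smul_mem' := by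
        rintro c _ ⟨a, rfl⟩
        exact ⟨WittVector.frobenius c • a, by rw [map_smulₛₗ, hσ]⟩ }
  let e : M → Q := fun m => ⟨V m, m, rfl⟩
  have he : Function.Bijective e := ⟨fun a b h => hinj (congrArg Subtype.val h), fun ⟨_, m, hm⟩ => ⟨m, Subtype.ext hm⟩⟩
  let g := (Equiv.ofBijective e he).symm
  have hg : ∀ y : Q, V (g y) = y := fun y => congrArg Subtype.val ((Equiv.ofBijective e he).apply_symm_apply y)
  have hg' : ∀ m h, g ⟨V m, h⟩ = m := fun m _ => hinj (hg _)
  let Vinv : Q →ₛₗ[(WittVector.frobenius : W →+* W)] M :=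
    { toFun := g
      map_add' := fun x y => hinj (by rw [map_add V, hg, hg, hg]; rfl)
      map_smul' := fun c x => hinj (by rw [map_smulₛₗ V, hg, hg, hσ]; rfl) }
  have hpQ : pI • (⊤ : Submodule W M) ≤ Q := Submodule.smul_le.2 fun a ha x _ => by
    obtain ⟨c, rfl⟩ := Ideal.mem_span_singleton'.1 ha
    rw [mul_smul, ← hVF]
    exact Q.smul_mem c ⟨F x, rfl⟩
  -- normal decomposition
  obtain ⟨m, ι, π, hπ⟩ := exists_retract_bot (p := p) (k := k) (M := M)
  let R := W ⧸ pI
  let Mb := M ⧸ (pI • (⊤ : Submodule W M))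
  let Qb : Submodule R Mb := Submodule.span R (Set.range fun m : M => (pI • (⊤ : Submodule W M)).mkQ (V m))
  haveI : Module.Projective R (Mb ⧸ Qb) := projective_mod_V (I := ⊥) bot_le ι π hπ F V hFV hVF
  obtain ⟨sec, hsec⟩ := Module.projective_lifting_property Qb.mkQ LinearMap.id (Submodule.mkQ_surjective _)
  have hsec' : ∀ t, Qb.mkQ (sec t) = t := fun t => LinearMap.congr_fun hsec t
  let C : Submodule W M := ((LinearMap.range sec).restrictScalars W).comap (pI • (⊤ : Submodule W M)).mkQ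
  have hQb : ∀ z : Mb, z ∈ Qb → ∃ y ∈ Q, (pI • (⊤ : Submodule W M)).mkQ y = z := fun z hz => by
    induction hz using Submodule.span_induction with
    | mem z hz => obtain ⟨m, rfl⟩ := hz; exact ⟨V m, ⟨m, rfl⟩, rfl⟩
    | zero => exact ⟨0, Q.zero_mem, map_zero _⟩
    | add x y _ _ hx hy =>
      obtain ⟨a, ha, rfl⟩ := hx
      obtain ⟨b, hb, rfl⟩ := hy
      exact ⟨a + b, add_mem ha hb, map_add _ _ _⟩
    | smul r x _ hx =>
      obtain ⟨a, ha, rfl⟩ := hx
      obtain ⟨c, rfl⟩ := Ideal.Quotient.mk_surjective r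
      exact ⟨c • a, Q.smul_mem c ha, rfl⟩
  have hQC1 : Q ⊔ C = ⊤ := eq_top_iff.2 fun x _ => by
    obtain ⟨y, hy⟩ := Submodule.mkQ_surjective _ (sec (Qb.mkQ ((pI • (⊤ : Submodule W M)).mkQ x)))
    have hyC : y ∈ C := ⟨_, hy.symm⟩
    have hd : (pI • (⊤ : Submodule W M)).mkQ (x - y) ∈ Qb := by
      rw [map_sub, hy]
      exact (Submodule.Quotient.eq Qb).1 (hsec' _).symm
    obtain ⟨z, hz, hzx⟩ := hQb _ hd
    have : x - y ∈ Q := by
      have h := (Submodule.Quotient.eq _).1 hzx
      simpa using Q.sub_mem hz (hpQ h)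
    simpa using Submodule.add_mem_sup this hyC
  have hQC2 : Q ⊓ C = pI • (⊤ : Submodule W M) := by
    refine le_antisymm ?_ (le_inf hpQ fun x hx => ?_)
    · rintro x ⟨⟨m, rfl⟩, t, ht⟩
      have h0 : t = 0 := by
        rw [← hsec' t, ht]
        exact (Submodule.Quotient.mk_eq_zero _).2 (Submodule.subset_span ⟨m, rfl⟩)
      rw [h0, map_zero] at ht
      exact (Submodule.Quotient.mk_eq_zero _).1 ht.symm
    · show (pI • (⊤ : Submodule W M)).mkQ x ∈ LinearMap.range sec
      rw [Submodule.mkQ_apply, (Submodule.Quotient.mk_eq_zero _).2 hx]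
      exact zero_mem _
  haveI := isAdicComplete_span_p (p := p) (R := k) (CharP.cast_eq_zero k p ▸ IsNilpotent.zero)
  haveI := (Groth.Agent.S14855.result p k).1
  obtain ⟨L, T, hLT, hQ⟩ := exists_isCompl pI Q C hQC1 hQC2
  refine ⟨{
    Q := Q
    F := F
    Vinv := Vinv
    finite := inferInstance
    projective := inferInstance
    IV_smul_le := by rw [IV_eq_span_p]; exact hpQ
    exists_normal := ⟨L, T, hLT, by rw [IV_eq_span_p]; exact hQ⟩
    span_range_Vinv := eq_top_iff.2 fun x _ => Submodule.subset_span ⟨e x, hg' x _⟩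
    Vinv_verschiebung_smul := fun w x => hinj ?_ }, rfl, fun x => Iff.rfl, hg'⟩
  refine (hg _).trans ?_
  obtain ⟨c, rfl⟩ := (WittVector.frobenius_bijective p k).2 w
  show WittVector.verschiebung (WittVector.frobenius c) • x = _
  rw [map_smulₛₗ, hσ, hVF, WittVector.verschiebung_frobenius, mul_smul]

end GrothLib.DispRigid
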