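import Groth.Prelude.Def_W4c1extbt610Disp
import Groth.Agent.Lib.DispRigid.Witt
import Groth.Agent.Lib.DispRigid.BaseChange
import Mathlib

/-!
# Exterior powers of 3n-displays with tangent module of rank one
-/

universe u v w

namespace GrothLib.DispRigid

section Expand

variable {A : Type u} [CommRing A] {M : Type v} [AddCommGroup M] [Module A M] {N : Type w} [AddCommGroup N] [Module A N]
  {r : ℕ} (f : M [⋀^Fin r]→ₗ[A] N)

theorem update_eq (v l : Fin r → M) (c : Fin r → A) (t : M) (hv : ∀ i, v i = l i + c i • t) (i : Fin r)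
    (s : Finset (Fin r)) (his : i ∉ s) :
    f (Function.update (s.piecewise v l) i t) = f (Function.update l i t) := by
  classical
  induction s using Finset.induction with
  | empty => simp
  | @insert j s hj ih =>
    have hij : i ≠ j := fun h => his (h ▸ Finset.mem_insert_self _ _)
    have h0 : f (Function.update (Function.update (s.piecewise v l) i t) j t) = 0 :=
      f.map_eq_zero_of_eq _ (i := i) (j := j) (by
        rw [Function.update_self, Function.update_of_ne hij, Function.update_self]) hij
    rw [Finset.piecewise_insert, Function.update_comm hij.symm, hv j, f.map_update_add, f.map_update_smul, h0,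
      smul_zero, add_zero]
    have : Function.update (Function.update (s.piecewise v l) i t) j (l j) = Function.update (s.piecewise v l) i t := by
      rw [Function.update_eq_self_iff, Function.update_of_ne hij.symm, Finset.piecewise_eq_of_notMem _ _ _ hj]
    rw [this]
    exact ih fun h => his (Finset.mem_insert_of_mem h)

/-- an alternating map on vectors differing by multiples of one vector -/
theorem expand (v l : Fin r → M) (c : Fin r → A) (t : M) (hv : ∀ i, v i = l i + c i • t) :
    f v = f l + ∑ i, c i • f (Function.update l i t) := by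
  classical
  suffices h : ∀ s : Finset (Fin r), f (s.piecewise v l) = f l + ∑ i ∈ s, c i • f (Function.update l i t) by
    simpa using h Finset.univ
  intro s
  induction s using Finset.induction with
  | empty => simp
  | @insert j s hj ih =>
    rw [Finset.piecewise_insert, hv j, f.map_update_add, f.map_update_smul, update_eq f v l c t hv j s hj,
      Finset.sum_insert hj]
    have : Function.update (s.piecewise v l) j (l j) = s.piecewise v l := by
      rw [Function.update_eq_self_iff, Finset.piecewise_eq_of_notMem _ _ _ hj]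
    rw [this, ih]
    abel

end Expand

section Twist

variable {A : Type u} [CommRing A]

/-- a module with the scalar action twisted by an endomorphism -/
def Tw (_g : A →+* A) (N : Type w) : Type w := N

instance (g : A →+* A) (N : Type w) [AddCommGroup N] : AddCommGroup (Tw g N) := inferInstanceAs (AddCommGroup N)

noncomputable instance (g : A →+* A) (N : Type w) [AddCommGroup N] [Module A N] : Module A (Tw g N) :=
  Module.compHom N g

variable {M : Type v} [AddCommGroup M] [Module A M]

/-- the alternating map underlying the exterior power of a semilinear map -/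
noncomputable def extAlt (g : A →+* A) (r : ℕ) (ψ : M →ₛₗ[g] M) : M [⋀^Fin r]→ₗ[A] Tw g (⋀[A]^r M) where
  toFun v := exteriorPower.ιMulti A r (fun i => ψ (v i))
  map_update_add' v i x y := by
    show exteriorPower.ιMulti A r (ψ ∘ Function.update v i (x + y))
      = exteriorPower.ιMulti A r (ψ ∘ Function.update v i x) + exteriorPower.ιMulti A r (ψ ∘ Function.update v i y)
    rw [Function.comp_update, Function.comp_update, Function.comp_update, map_add, AlternatingMap.map_update_add]
  map_update_smul' v i c x := by
    show exteriorPower.ιMulti A r (ψ ∘ Function.update v i (c • x))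
      = g c • exteriorPower.ιMulti A r (ψ ∘ Function.update v i x)
    rw [Function.comp_update, Function.comp_update, map_smulₛₗ, AlternatingMap.map_update_smul]
  map_eq_zero_of_eq' v i j h hij :=
    (exteriorPower.ιMulti A r).map_eq_zero_of_eq (fun k => ψ (v k)) (by rw [h]) hij

/-- the exterior power of a semilinear map -/
noncomputable def extMap (g : A →+* A) (r : ℕ) (ψ : M →ₛₗ[g] M) : (⋀[A]^r M) →ₛₗ[g] ⋀[A]^r M where
  toFun z := exteriorPower.alternatingMapLinearEquiv (extAlt g r ψ) z
  map_add' x y := map_add (exteriorPower.alternatingMapLinearEquiv (extAlt g r ψ)) x y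
  map_smul' c x := map_smul (exteriorPower.alternatingMapLinearEquiv (extAlt g r ψ)) c x

theorem extMap_ιMulti (g : A →+* A) (r : ℕ) (ψ : M →ₛₗ[g] M) (v : Fin r → M) :
    extMap g r ψ (exteriorPower.ιMulti A r v) = exteriorPower.ιMulti A r (fun i => ψ (v i)) :=
  exteriorPower.alternatingMapLinearEquiv_apply_ιMulti (extAlt g r ψ) v

theorem ext_semilinear {g : A →+* A} {r : ℕ} {f₁ f₂ : (⋀[A]^r M) →ₛₗ[g] ⋀[A]^r M}
    (h : ∀ v, f₁ (exteriorPower.ιMulti A r v) = f₂ (exteriorPower.ιMulti A r v)) (z : ⋀[A]^r M) : f₁ z = f₂ z := by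
  have hz : z ∈ Submodule.span A (Set.range (exteriorPower.ιMulti A r : (Fin r → M) → ⋀[A]^r M)) := by
    rw [exteriorPower.ιMulti_span]; exact Submodule.mem_top
  induction hz using Submodule.span_induction with
  | mem x hx => obtain ⟨v, rfl⟩ := hx; exact h v
  | zero => rw [map_zero, map_zero]
  | add x y _ _ hx hy => rw [map_add, map_add, hx, hy]
  | smul c x _ hx => rw [map_smulₛₗ, map_smulₛₗ, hx]

theorem projective_exteriorPower [Module.Finite A M] [Module.Projective A M] (r : ℕ) :
    Module.Projective A (⋀[A]^r M) := by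
  obtain ⟨n, a, b, hab⟩ := Module.Finite.exists_comp_eq_id_of_projective A M
  exact Module.Projective.of_split (exteriorPower.map r b) (exteriorPower.map r a)
    (by rw [← exteriorPower.map_comp, hab.2.2, exteriorPower.map_id])

end Twist

variable {p : ℕ} [Fact p.Prime] {R : Type u} [CommRing R] {P : Type v} [AddCommGroup P] [Module (WittVector p R) P]

open W4c1extbt610

local notation "W" => WittVector p R
local notation "σ" => (WittVector.frobenius : WittVector p R →+* WittVector p R)

/-- the projection of the exterior power attached to a normal decomposition -/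
noncomputable def extProj {L T : Submodule W P} (hLT : IsCompl L T) (r : ℕ) : (⋀[W]^r P) →ₗ[W] ⋀[W]^r P :=
  exteriorPower.map r (L.subtype.comp (L.projectionOnto T hLT))

theorem extPow_existsUnique (D : Display3n p R P) (L T : Submodule W P) (hLT : IsCompl L T)
    (hQ : D.Q = L ⊔ IV p R • T) (eT : T ≃ₗ[W] W) (r : ℕ) :
    ∃ E : Display3n p R (⋀[W]^r P), IsExtPow D r E ∧
      (∀ E' : Display3n p R (⋀[W]^r P), IsExtPow D r E' → E' = E) ∧
      IsCompl (LinearMap.range (extProj hLT r)) (LinearMap.ker (extProj hLT r)) ∧
      E.Q = LinearMap.range (extProj hLT r) ⊔ IV p R • LinearMap.ker (extProj hLT r) := by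
  haveI := D.finite
  haveI := D.projective
  haveI : Module.Projective W (⋀[W]^r P) := projective_exteriorPower r
  have hL : L ≤ D.Q := hQ ▸ le_sup_left
  let πL : P →ₗ[W] L := L.projectionOnto T hLT
  let t : P := (eT.symm 1 : T)
  let c : P →ₗ[W] W := eT.toLinearMap.comp (T.projectionOnto L hLT.symm)
  have hdec : ∀ x, x = (πL x : P) + c x • t := fun x => by
    have h := Submodule.projection_add_projection_eq_self hLT x
    have h2 : c x • eT.symm 1 = T.projectionOnto L hLT.symm x := by
      rw [← map_smul, smul_eq_mul, mul_one]; exact eT.symm_apply_apply _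
    rw [show c x • t = ((c x • eT.symm 1 : T) : P) from rfl, h2]
    exact h.symm
  have hπt : πL t = 0 := Submodule.projectionOnto_apply_right hLT (eT.symm 1)
  have hπl : ∀ x, (πL (πL x : P) : P) = πL x := fun x => by
    rw [show πL (πL x : P) = πL x from Submodule.projectionOnto_apply_left hLT (πL x)]
  have hct : c t = 1 := by
    show eT (T.projectionOnto L hLT.symm t) = 1
    rw [show T.projectionOnto L hLT.symm t = eT.symm 1 from Submodule.projectionOnto_apply_left hLT.symm (eT.symm 1),
      eT.apply_symm_apply]
  have hcl : ∀ x, c (πL x : P) = 0 := fun x => by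
    show eT (T.projectionOnto L hLT.symm (πL x : P)) = 0
    rw [show T.projectionOnto L hLT.symm (πL x : P) = 0 from Submodule.projectionOnto_apply_right hLT.symm (πL x), map_zero]
  have hcQ : ∀ q : D.Q, (c q).coeff 0 = 0 := fun q => by
    refine coeff_zero_eq_zero_of_mem_IV (S := R) ?_
    have hq : (q : P) ∈ L ⊔ IV p R • T := hQ ▸ q.2
    obtain ⟨l, hl, y, hy, hly⟩ := Submodule.mem_sup.1 hq
    rw [← hly, map_add]
    refine add_mem ?_ ?_
    · have : c l = 0 := by
        show eT (T.projectionOnto L hLT.symm l) = 0
        rw [show T.projectionOnto L hLT.symm l = 0 from Submodule.projectionOnto_apply_right hLT.symm ⟨l, hl⟩, map_zero]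
      rw [this]; exact zero_mem _
    · refine Submodule.smul_induction_on hy (fun a ha z _ => ?_) (fun a b ha hb => ?_)
      · rw [map_smul, smul_eq_mul]; exact Ideal.mul_mem_right _ _ ha
      · rw [map_add]; exact add_mem ha hb
  have htQ : ∀ q : D.Q, c q • t ∈ D.Q := fun q => D.IV_smul_le (Submodule.smul_mem_smul (by
    rw [← eq_verschiebung_shift (hcQ q)]; exact verschiebung_mem_IV p R _) Submodule.mem_top)
  -- semilinear maps on `P`
  let ψ : P →ₛₗ[σ] P :=
    { toFun := fun x => D.Vinv (Submodule.inclusion hL (πL x))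
      map_add' := fun x y => by simp only [map_add]
      map_smul' := fun a x => by simp only [map_smul, map_smulₛₗ] }
  let φ : P →ₛₗ[σ] P :=
    { toFun := fun x => ψ x + σ (c x) • D.F t
      map_add' := fun x y => by simp only [map_add, add_smul]; abel
      map_smul' := fun a x => by simp only [map_smulₛₗ, RingHom.id_apply, smul_eq_mul, map_mul, mul_smul, smul_add] }
  have hψπ : ∀ x, ψ (πL x : P) = ψ x := fun x => congrArg D.Vinv (Subtype.ext (hπl x))
  have hψt : ψ t = 0 := by
    show D.Vinv (Submodule.inclusion hL (πL t)) = 0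
    rw [hπt, map_zero, map_zero]
  have hφπ : ∀ x, φ (πL x : P) = ψ x := fun x => by
    show ψ (πL x : P) + σ (c (πL x : P)) • D.F t = _
    rw [hcl, map_zero, zero_smul, add_zero, hψπ]
  have hφt : φ t = D.F t := by
    show ψ t + σ (c t) • D.F t = _
    rw [hψt, hct, map_one, one_smul, zero_add]
  have hVinv : ∀ q : D.Q, D.Vinv q = ψ q + (c q).shift 1 • D.F t := fun q => by
    have e : q = Submodule.inclusion hL (πL (q : P)) + ⟨c q • t, htQ q⟩ := Subtype.ext (hdec q)
    conv_lhs => rw [e, map_add]
    refine congrArg₂ (· + ·) rfl ?_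
    rw [← D.Vinv_verschiebung_smul]
    exact congrArg D.Vinv (Subtype.ext (congrArg (· • t) (eq_verschiebung_shift (hcQ q)).symm))
  -- maps on the exterior power
  let Pr : (⋀[W]^r P) →ₗ[W] ⋀[W]^r P := extProj hLT r
  have hPr : ∀ v, Pr (exteriorPower.ιMulti W r v) = exteriorPower.ιMulti W r (fun i => (πL (v i) : P)) := fun v =>
    exteriorPower.map_apply_ιMulti _ v
  let Aψ := extMap σ r ψ
  let FE : (⋀[W]^r P) →ₛₗ[σ] ⋀[W]^r P := ((p : W) - 1) • Aψ + extMap σ r φ
  have hAPr : ∀ z, Aψ (Pr z) = Aψ z := ext_semilinear (f₁ := Aψ.comp Pr) (f₂ := Aψ) fun v => by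
    rw [LinearMap.comp_apply, hPr, extMap_ιMulti, extMap_ιMulti]
    exact congrArg _ (funext fun i => hψπ (v i))
  have hFPr : ∀ z, FE (Pr z) = (p : W) • Aψ z := ext_semilinear (f₁ := FE.comp Pr) (f₂ := (p : W) • Aψ) fun v => by
    rw [LinearMap.comp_apply, LinearMap.smul_apply]
    show ((p : W) - 1) • Aψ (Pr _) + extMap σ r φ (Pr _) = _
    rw [hAPr, hPr, extMap_ιMulti, extMap_ιMulti]
    rw [show (fun i => φ (πL (v i) : P)) = fun i => ψ (v i) from funext fun i => hφπ (v i)]
    module
  have hPrPr : IsIdempotentElem Pr := by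
    refine exteriorPower.linearMap_ext (AlternatingMap.ext fun v => ?_)
    show Pr (Pr (exteriorPower.ιMulti W r v)) = Pr (exteriorPower.ιMulti W r v)
    rw [hPr, hPr]
    exact congrArg _ (funext fun i => hπl (v i))
  have hidem : ∀ z, Pr (Pr z) = Pr z := fun z => LinearMap.congr_fun hPrPr z
  have hsm : ∀ (a : W) (z : ⋀[W]^r P), a • z - Pr (a • z) = a • (z - Pr z) := fun a z => by
    rw [map_smul]; exact (smul_sub a z (Pr z)).symm
  obtain ⟨n, co, g, hco⟩ := exists_dualBasis (A := W) (⋀[W]^r P)
  let Q' : Submodule W (⋀[W]^r P) := (IV p R • (⊤ : Submodule W (⋀[W]^r P))).comap (LinearMap.id - Pr)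
  have hmemQ : ∀ z, z ∈ Q' ↔ z - Pr z ∈ IV p R • (⊤ : Submodule W (⋀[W]^r P)) := fun z => Iff.rfl
  have hmem : ∀ z ∈ Q', ∀ j, (co j (z - Pr z)).coeff 0 = 0 := fun z hz j => by
    refine coeff_zero_eq_zero_of_mem_IV (S := R) ?_
    refine Submodule.smul_induction_on ((hmemQ z).1 hz) (fun a ha y _ => ?_) (fun a b ha hb => ?_)
    · rw [map_smul, smul_eq_mul]; exact Ideal.mul_mem_right _ _ ha
    · rw [map_add]; exact add_mem ha hb
  let G : (⋀[W]^r P) → ⋀[W]^r P := fun z => Aψ z + ∑ j, (co j (z - Pr z)).shift 1 • FE (g j)
  have hsh : ∀ a b : W, a.coeff 0 = 0 → b.coeff 0 = 0 → (a + b).shift 1 = a.shift 1 + b.shift 1 := fun a b ha hb =>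
    WittVector.verschiebung_injective p R <| by
      rw [map_add, eq_verschiebung_shift ha, eq_verschiebung_shift hb]
      refine eq_verschiebung_shift ?_
      rw [← WittVector.constantCoeff_apply, map_add, WittVector.constantCoeff_apply, WittVector.constantCoeff_apply, ha, hb, add_zero]
  have Gadd : ∀ y ∈ Q', ∀ z ∈ Q', G (y + z) = G y + G z := fun y hy z hz => by
    have h : ∀ j, (co j (y + z - Pr (y + z))).shift 1 = (co j (y - Pr y)).shift 1 + (co j (z - Pr z)).shift 1 := fun j => by
      rw [map_add, add_sub_add_comm, map_add, hsh _ _ (hmem y hy j) (hmem z hz j)]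
    simp only [G, h, add_smul, Finset.sum_add_distrib]
    rw [map_add]
    abel
  have Gsmul : ∀ (a : W), ∀ z ∈ Q', G (a • z) = σ a • G z := fun a z hz => by
    have h : ∀ j, (co j (a • z - Pr (a • z))).shift 1 = σ a * (co j (z - Pr z)).shift 1 := fun j => by
      rw [hsm, map_smul, smul_eq_mul, shift_mul_of_mem a (hmem z hz j)]
    show Aψ (a • z) + _ = σ a • (_ + _)
    rw [map_smulₛₗ, smul_add, Finset.smul_sum, Finset.sum_congr rfl fun j _ => by rw [h j, mul_smul]]
  have GV : ∀ (u : W) (z : ⋀[W]^r P), G (WittVector.verschiebung u • z) = u • FE z := fun u z => by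
    have h : ∀ j, (co j (WittVector.verschiebung u • z - Pr (WittVector.verschiebung u • z))).shift 1
        = u * σ (co j (z - Pr z)) := fun j => by
      rw [hsm, map_smul, smul_eq_mul, mul_comm,
        shift_mul_of_mem _ (WittVector.verschiebung_coeff_zero u), shift_verschiebung, mul_comm]
    show Aψ (WittVector.verschiebung u • z) + _ = _
    rw [map_smulₛₗ, WittVector.frobenius_verschiebung, mul_smul, Finset.sum_congr rfl fun j _ => by rw [h j, mul_smul],
      ← Finset.smul_sum, ← smul_add]
    refine congrArg (u • ·) ?_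
    have h2 : ∑ j, σ (co j (z - Pr z)) • FE (g j) = FE (z - Pr z) := by
      conv_rhs => rw [← hco (z - Pr z), map_sum]
      exact Finset.sum_congr rfl fun j _ => (map_smulₛₗ FE _ _).symm
    rw [h2, map_sub, hFPr]
    abel
  have hIV : IV p R • (⊤ : Submodule W (⋀[W]^r P)) ≤ Q' := Submodule.smul_le.2 fun a ha z _ => by
    rw [hmemQ, hsm]
    exact Submodule.smul_mem_smul ha Submodule.mem_top
  -- wedges
  have hexp : ∀ v : Fin r → P, exteriorPower.ιMulti W r v = exteriorPower.ιMulti W r (fun i => (πL (v i) : P))
      + ∑ i, c (v i) • exteriorPower.ιMulti W r (Function.update (fun i => (πL (v i) : P)) i t) := fun v =>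
    expand (exteriorPower.ιMulti W r) v (fun i => (πL (v i) : P)) (fun i => c (v i)) t fun i => hdec (v i)
  have hwQ : ∀ q : Fin r → D.Q, exteriorPower.ιMulti W r (fun i => (q i : P)) ∈ Q' := fun q => by
    rw [hmemQ, hPr]
    conv => enter [2, 1]; rw [hexp fun i => (q i : P)]
    rw [add_sub_cancel_left]
    refine Submodule.sum_mem _ fun i _ => Submodule.smul_mem_smul ?_ Submodule.mem_top
    rw [← eq_verschiebung_shift (hcQ (q i))]
    exact verschiebung_mem_IV p R _
  have hQspan : Q' = Submodule.span W
      (Set.range fun q : Fin r → D.Q => exteriorPower.ιMulti W r (fun i => (q i : P))) := by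
    refine le_antisymm (fun z hz => ?_) (Submodule.span_le.2 fun _ ⟨q, hq⟩ => hq ▸ hwQ q)
    have hP : ∀ y, Pr y ∈ Submodule.span W
        (Set.range fun q : Fin r → D.Q => exteriorPower.ιMulti W r (fun i => (q i : P))) := fun y => by
      have hy : y ∈ Submodule.span W (Set.range (exteriorPower.ιMulti W r : (Fin r → P) → ⋀[W]^r P)) := by
        rw [exteriorPower.ιMulti_span]; exact Submodule.mem_top
      induction hy using Submodule.span_induction with
      | mem x hx =>
        obtain ⟨v, rfl⟩ := hx
        rw [hPr]
        exact Submodule.subset_span ⟨fun i => Submodule.inclusion hL (πL (v i)), rfl⟩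
      | zero => rw [map_zero]; exact zero_mem _
      | add x y _ _ hx hy => rw [map_add]; exact add_mem hx hy
      | smul a x _ hx => rw [map_smul]; exact Submodule.smul_mem _ _ hx
    have hI : ∀ y ∈ IV p R • (⊤ : Submodule W (⋀[W]^r P)), y - Pr y ∈ Submodule.span W
        (Set.range fun q : Fin r → D.Q => exteriorPower.ιMulti W r (fun i => (q i : P))) := fun y hy => by
      refine Submodule.smul_induction_on hy (fun a ha x hxt => ?_) (fun a b ha hb => ?_)
      · clear hxt
        have hx : x ∈ Submodule.span W (Set.range (exteriorPower.ιMulti W r : (Fin r → P) → ⋀[W]^r P)) := by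
          rw [exteriorPower.ιMulti_span]; exact Submodule.mem_top
        rw [hsm]
        clear y hy
        induction hx using Submodule.span_induction with
        | mem x hx =>
          obtain ⟨v, rfl⟩ := hx
          rw [hPr, sub_eq_of_eq_add' (hexp v), Finset.smul_sum]
          refine Submodule.sum_mem _ fun i _ => ?_
          rw [smul_comm, ← AlternatingMap.map_update_smul]
          refine Submodule.smul_mem _ _ ?_
          have hm : a • t ∈ D.Q := D.IV_smul_le (Submodule.smul_mem_smul ha Submodule.mem_top)
          refine Submodule.subset_span ⟨Function.update (fun i => Submodule.inclusion hL (πL (v i))) i ⟨a • t, hm⟩, ?_⟩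
          refine congrArg _ (funext fun j => ?_)
          rcases eq_or_ne j i with rfl | hj
          · rw [Function.update_self, Function.update_self]
          · rw [Function.update_of_ne hj, Function.update_of_ne hj]; rfl
        | zero => simp
        | add x y _ _ hx hy => rw [map_add, add_sub_add_comm, smul_add]; exact add_mem hx hy
        | smul b x _ hx => rw [hsm, smul_comm]; exact Submodule.smul_mem _ _ hx
      · rw [map_add, add_sub_add_comm]; exact add_mem ha hb
    have h := hI _ ((hmemQ z).1 hz)
    rw [map_sub, hidem, sub_self, sub_zero] at h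
    simpa using add_mem h (hP z)
  have hwedge : ∀ q : Fin r → D.Q, G (exteriorPower.ιMulti W r (fun i => (q i : P)))
      = exteriorPower.ιMulti W r (fun i => D.Vinv (q i)) := fun q => by
    have hm : ∀ i, c (q i : P) • exteriorPower.ιMulti W r (Function.update (fun i => (πL (q i : P) : P)) i t) ∈ Q' :=
      fun i => hIV (Submodule.smul_mem_smul (by
        rw [← eq_verschiebung_shift (hcQ (q i))]; exact verschiebung_mem_IV p R _) Submodule.mem_top)
    have hz : exteriorPower.ιMulti W r (fun i => (πL (q i : P) : P)) ∈ Q' :=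
      hwQ fun i => Submodule.inclusion hL (πL (q i : P))
    rw [hexp fun i => (q i : P)]
    rw [Gadd _ hz _ (Submodule.sum_mem _ fun i _ => hm i)]
    have hsum : ∀ s : Finset (Fin r), ∀ f : Fin r → ⋀[W]^r P, (∀ i, f i ∈ Q') → G (∑ i ∈ s, f i) = ∑ i ∈ s, G (f i) := by
      intro s f hf
      classical
      induction s using Finset.induction with
      | empty =>
        have := GV 0 0
        rw [smul_zero, zero_smul] at this
        simpa using this
      | @insert i s hi ih =>
        rw [Finset.sum_insert hi, Finset.sum_insert hi, Gadd _ (hf i) _ (Submodule.sum_mem _ fun j _ => hf j), ih]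
    rw [hsum _ _ hm]
    have h1 : G (exteriorPower.ιMulti W r (fun i => (πL (q i : P) : P))) = exteriorPower.ιMulti W r (fun i => ψ (q i : P)) := by
      have h0 : exteriorPower.ιMulti W r (fun i => (πL (q i : P) : P)) - Pr (exteriorPower.ιMulti W r (fun i => (πL (q i : P) : P))) = 0 := by
        rw [hPr, sub_eq_zero]
        exact congrArg _ (funext fun i => (hπl _).symm)
      have hs0 : (0 : W).shift 1 = 0 := WittVector.verschiebung_injective p R (by
        rw [map_zero]; exact eq_verschiebung_shift (WittVector.zero_coeff p R 0))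
      simp only [G, h0, map_zero, hs0, zero_smul, Finset.sum_const_zero, add_zero]
      rw [extMap_ιMulti]
      exact congrArg _ (funext fun i => hψπ _)
    have h2 : ∀ i, G (c (q i : P) • exteriorPower.ιMulti W r (Function.update (fun i => (πL (q i : P) : P)) i t))
        = (c (q i : P)).shift 1 • exteriorPower.ιMulti W r (Function.update (fun i => ψ (q i : P)) i (D.F t)) := fun i => by
      conv_lhs => rw [← eq_verschiebung_shift (hcQ (q i)), GV]
      refine congrArg _ ?_
      show ((p : W) - 1) • Aψ _ + extMap σ r φ _ = _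
      rw [extMap_ιMulti, extMap_ιMulti]
      have ea : exteriorPower.ιMulti W r (fun j => ψ (Function.update (fun i => (πL (q i : P) : P)) i t j)) = 0 :=
        (exteriorPower.ιMulti W r).map_coord_zero i (by rw [Function.update_self, hψt])
      rw [ea, smul_zero, zero_add]
      refine congrArg _ (funext fun j => ?_)
      rcases eq_or_ne j i with rfl | hj
      · rw [Function.update_self, Function.update_self, hφt]
      · rw [Function.update_of_ne hj, Function.update_of_ne hj, hφπ]
    simp only [h1, h2]
    exact (expand (exteriorPower.ιMulti W r) (fun i => D.Vinv (q i)) (fun i => ψ (q i : P))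
      (fun i => (c (q i : P)).shift 1) (D.F t) fun i => hVinv (q i)).symm
  have hnormal : Q' = LinearMap.range Pr ⊔ IV p R • LinearMap.ker Pr := by
    refine le_antisymm (fun z hz => ?_) (sup_le ?_ ((Submodule.smul_mono le_rfl le_top).trans hIV))
    · refine Submodule.mem_sup.2 ⟨Pr z, ⟨z, rfl⟩, z - Pr z, ?_, add_sub_cancel _ _⟩
      have h : ((LinearMap.id : (⋀[W]^r P) →ₗ[W] ⋀[W]^r P) - Pr) (z - Pr z) = z - Pr z := by
        simp only [LinearMap.sub_apply, LinearMap.id_apply, map_sub, hidem, sub_self, sub_zero]
      rw [← h]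
      have h2 : (IV p R • (⊤ : Submodule W (⋀[W]^r P))).map (LinearMap.id - Pr) ≤ IV p R • LinearMap.ker Pr := by
        rw [Submodule.map_smul'']
        refine Submodule.smul_mono le_rfl ?_
        rintro _ ⟨y, -, rfl⟩
        simp only [LinearMap.mem_ker, LinearMap.sub_apply, LinearMap.id_apply, map_sub, hidem, sub_self]
      exact h2 (Submodule.mem_map_of_mem ((hmemQ z).1 hz))
    · rintro _ ⟨z, rfl⟩
      rw [hmemQ, hidem, sub_self]
      exact zero_mem _
  let E : Display3n p R (⋀[W]^r P) :=
    { Q := Q'
      F := FE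
      Vinv := { toFun := fun z => G z, map_add' := fun y z => Gadd y y.2 z z.2, map_smul' := fun a z => Gsmul a z z.2 }
      finite := inferInstance
      projective := inferInstance
      IV_smul_le := hIV
      exists_normal := ⟨_, _, LinearMap.IsIdempotentElem.isCompl hPrPr, hnormal⟩
      span_range_Vinv := by
        rw [eq_top_iff, ← exteriorPower.ιMulti_span_of_span W r P D.span_range_Vinv]
        refine Submodule.span_mono ?_
        rintro _ ⟨v, hv, rfl⟩
        choose q hq using fun i => hv (Set.mem_range_self i)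
        refine ⟨⟨_, hwQ q⟩, (hwedge q).trans ?_⟩
        exact congrArg _ (funext hq)
      Vinv_verschiebung_smul := fun u z => GV u z }
  refine ⟨E, ⟨hQspan, fun q hq => hwedge q⟩, ?_, LinearMap.IsIdempotentElem.isCompl hPrPr, hnormal⟩
  rintro ⟨Q₂, F₂, V₂, _, _, hI₂, _, _, hVV₂⟩ ⟨hQ₂, hV₂⟩
  obtain rfl : Q₂ = Q' := hQ₂.trans hQspan.symm
  have hVeq : V₂ = E.Vinv := by
    refine LinearMap.ext fun z => ?_
    suffices h : ∀ y, y ∈ Submodule.span W (Set.range fun q : Fin r → D.Q => exteriorPower.ιMulti W r (fun i => (q i : P)))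
        → ∀ hy : y ∈ Q', V₂ ⟨y, hy⟩ = G y from h z.1 (hQspan ▸ z.2) z.2
    intro y hy
    induction hy using Submodule.span_induction with
    | mem x hx =>
      obtain ⟨q, rfl⟩ := hx
      intro hm
      exact (hV₂ q hm).trans (hwedge q).symm
    | zero => intro hm; exact (map_zero V₂).trans (map_zero E.Vinv).symm
    | add x y hx hy ix iy =>
      intro hm
      have mx : x ∈ Q' := hQspan.symm ▸ hx
      have my : y ∈ Q' := hQspan.symm ▸ hy
      exact (map_add V₂ ⟨x, mx⟩ ⟨y, my⟩).trans ((congrArg₂ (· + ·) (ix mx) (iy my)).trans (Gadd x mx y my).symm)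
    | smul a x hx ix =>
      intro hm
      have mx : x ∈ Q' := hQspan.symm ▸ hx
      exact (map_smulₛₗ V₂ a ⟨x, mx⟩).trans ((congrArg (σ a • ·) (ix mx)).trans (Gsmul a x mx).symm)
  subst hVeq
  have hFeq : F₂ = FE := LinearMap.ext fun z => by
    have h1 := hVV₂ 1 z
    have h2 := E.Vinv_verschiebung_smul 1 z
    rw [one_smul] at h1 h2
    exact h1.symm.trans h2
  subst hFeq
  rfl

end GrothLib.DispRigid
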