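import Groth.Agent.Lib.DispRigid.ExtPow
import Mathlib

/-!
# The rank of the tangent part of an exterior power
-/

universe u v

namespace GrothLib.DispRigid

open Set (powersetCard)

theorem card_powersetCard_mem {α : Type} [Fintype α] [DecidableEq α] (a : α) (r : ℕ) (hr : 1 ≤ r) :
    Fintype.card {s : powersetCard α r // a ∈ (s : Finset α)} = (Fintype.card α - 1).choose (r - 1) := by
  let e : {s : powersetCard α r // a ∈ (s : Finset α)} ≃ ↥((Finset.univ.erase a).powersetCard (r - 1)) :=
    { toFun := fun s => ⟨(s.1 : Finset α).erase a, Finset.mem_powersetCard.2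
        ⟨Finset.erase_subset_erase a (Finset.subset_univ _), by rw [Finset.card_erase_of_mem s.2, Set.powersetCard.card_eq]⟩⟩
      invFun := fun t => ⟨⟨insert a t.1, by
          have h := Finset.mem_powersetCard.1 t.2
          show (insert a t.1).card = r
          rw [Finset.card_insert_of_notMem fun hh => (Finset.mem_erase.1 (h.1 hh)).1 rfl, h.2]
          omega⟩, Finset.mem_insert_self a t.1⟩
      left_inv := fun s => Subtype.ext (Subtype.ext (Finset.insert_erase s.2))
      right_inv := fun t => Subtype.ext (Finset.erase_insert fun hh =>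
        (Finset.mem_erase.1 ((Finset.mem_powersetCard.1 t.2).1 hh)).1 rfl) }
  rw [Fintype.card_congr e, Fintype.card_coe, Finset.card_powersetCard, Finset.card_erase_of_mem (Finset.mem_univ _),
    Finset.card_univ]

variable {p : ℕ} [Fact p.Prime] {R : Type u} [CommRing R] {P : Type v} [AddCommGroup P] [Module (WittVector p R) P]

local notation "W" => WittVector p R

theorem ker_extProj_free [Nontrivial W] {L T : Submodule W P} (hLT : IsCompl L T) (eT : T ≃ₗ[W] W) (m : ℕ)
    (bL : Module.Basis (Fin m) W L) (r : ℕ) (hr : 1 ≤ r) :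
    Module.Free W (LinearMap.ker (extProj hLT r)) ∧ Module.finrank W (LinearMap.ker (extProj hLT r)) = m.choose (r - 1) := by
  classical
  let b : Module.Basis (Fin (m + 1)) W P :=
    ((bL.prod ((Module.Basis.singleton (Fin 1) W).map eT.symm)).map (Submodule.prodEquivOfIsCompl L T hLT)).reindex finSumFinEquiv
  have hb : ∀ i : Fin (m + 1), (L.subtype.comp (L.projectionOnto T hLT)) (b i) = if i = Fin.last m then 0 else b i := by
    intro i
    obtain ⟨j, rfl⟩ := finSumFinEquiv.surjective i
    have hbj : b (finSumFinEquiv j) =
        Sum.elim (fun a => (bL a : P)) (fun _ => ((eT.symm 1 : T) : P)) j := by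
      rcases j with j | j <;> simp [b, Submodule.prodEquivOfIsCompl]
    rw [hbj]
    rcases j with j | j
    · rw [if_neg (Fin.ne_of_lt (by simp [Fin.lt_def]))]
      show ((L.projectionOnto T hLT (bL j : P) : L) : P) = _
      rw [Submodule.projectionOnto_apply_left]; rfl
    · rw [if_pos (by fin_cases j; rfl)]
      show ((L.projectionOnto T hLT ((eT.symm 1 : T) : P) : L) : P) = 0
      rw [Submodule.projectionOnto_apply_right]; rfl
  let B := b.exteriorPower (n := r)
  let S : Set (powersetCard (Fin (m + 1)) r) := {s | Fin.last m ∈ (s : Finset (Fin (m + 1)))}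
  have hB : ∀ s, extProj hLT r (B s) = if s ∈ S then 0 else B s := fun s => by
    rw [exteriorPower.basis_apply, extProj, exteriorPower.ιMulti_family, exteriorPower.map_apply_ιMulti]
    split_ifs with hs
    · obtain ⟨k, hk⟩ := (Set.powersetCard.mem_range_ofFinEmbEquiv_symm_iff_mem s (Fin.last m)).2 hs
      exact (exteriorPower.ιMulti W r).map_coord_zero k (by rw [Function.comp_apply, Function.comp_apply, hk, hb, if_pos rfl])
    · refine congrArg _ (funext fun k => ?_)
      rw [Function.comp_apply, Function.comp_apply, hb, if_neg]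
      intro hk
      exact hs ((Set.powersetCard.mem_range_ofFinEmbEquiv_symm_iff_mem s (Fin.last m)).1 ⟨k, hk⟩)
  let bK : ↥S → LinearMap.ker (extProj hLT r) := fun s => ⟨B s.1, by rw [LinearMap.mem_ker, hB, if_pos s.2]⟩
  have hli : LinearIndependent W bK :=
    LinearIndependent.of_comp (LinearMap.ker (extProj hLT r)).subtype (B.linearIndependent.comp _ Subtype.val_injective)
  have hsp : ⊤ ≤ Submodule.span W (Set.range bK) := by
    rintro ⟨z, hz⟩ -
    have h0 : ∀ s, s ∉ S → B.repr z s = 0 := fun s hs => by
      have h1 : (B.coord s).comp (extProj hLT r) = B.coord s := B.ext fun t => by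
        rw [LinearMap.comp_apply, hB]
        split_ifs with ht
        · rw [map_zero, Module.Basis.coord_apply, B.repr_self, Finsupp.single_eq_of_ne]
          rintro rfl; exact hs ht
        · rfl
      have h2 := LinearMap.congr_fun h1 z
      rw [LinearMap.comp_apply, LinearMap.mem_ker.1 hz, map_zero] at h2
      exact h2.symm
    have hz' : (⟨z, hz⟩ : LinearMap.ker (extProj hLT r)) = ∑ s : ↥S, B.repr z s.1 • bK s := Subtype.ext <| by
      rw [Submodule.coe_sum]
      refine (B.sum_repr z).symm.trans ?_
      rw [← Finset.sum_subset (Finset.subset_univ (Finset.univ.filter (· ∈ S)))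
        (fun s _ hs => by rw [h0 s (by simpa using hs), zero_smul])]
      exact Finset.sum_subtype (Finset.univ.filter (· ∈ S)) (p := (· ∈ S)) (fun x => by simp) (fun s => B.repr z s • B s)
    rw [hz']
    exact Submodule.sum_mem _ fun s _ => Submodule.smul_mem _ _ (Submodule.subset_span ⟨s, rfl⟩)
  let K := Module.Basis.mk hli hsp
  refine ⟨Module.Free.of_basis K, ?_⟩
  rw [Module.finrank_eq_card_basis K, ← Nat.card_eq_fintype_card]
  have h := card_powersetCard_mem (Fin.last m) r hr
  rw [Fintype.card_fin, Nat.add_sub_cancel, ← Nat.card_eq_fintype_card] at h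
  exact h

end GrothLib.DispRigid
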