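import Groth.Prelude.Def_Dieu
import Mathlib

/-!
# Faithfully flat descent for modules over Witt vectors
-/

universe u v

open TensorProduct

namespace GrothLib.DispRigid

variable {p : ℕ} [Fact p.Prime] {S R : Type u} [CommRing S] [CommRing R] [Algebra S R] [Module.FaithfullyFlat S R]

local notation "Wf" => (WittVector.map (algebraMap S R) : WittVector p S →+* WittVector p R)
local notation "Wl" => (WittVector.map (Algebra.TensorProduct.includeLeftRingHom : R →+* TensorProduct S R R) : WittVector p R →+* WittVector p (TensorProduct S R R))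
local notation "Wr" => (WittVector.map ((Algebra.TensorProduct.includeRight : R →ₐ[S] TensorProduct S R R) : R →+* TensorProduct S R R) : WittVector p R →+* WittVector p (TensorProduct S R R))

theorem witt_eq_map_of_eq {w : WittVector p R} (h : Wl w = Wr w) : ∃ a, Wf a = w := by
  have : ∀ n, ∃ s, algebraMap S R s = w.coeff n := fun n => by
    have h1 := congrArg (fun y => y.coeff n) h
    simp only [WittVector.map_coeff] at h1
    have hex := (Algebra.IsEffective.of_faithfullyFlat S R)
    exact (hex (w.coeff n)).1 (by rw [Algebra.TensorProduct.includeLeftSubRight_apply, sub_eq_zero]; exact h1)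
  choose s hs using this
  exact ⟨WittVector.mk p s, WittVector.ext fun n => by rw [WittVector.map_coeff, WittVector.coeff_mk, hs]⟩

theorem witt_map_injective : Function.Injective Wf :=
  WittVector.map_injective _ (FaithfulSMul.algebraMap_injective S R)

theorem descent_exact (M : Type v) [AddCommGroup M] [Module (WittVector p S) M] [Module.Flat (WittVector p S) M]
    (e : (Wl).comp (Wf) = (Wr).comp (Wf)) :
    Function.Injective (Dieu.BC.ι Wf M) ∧
      ∀ z : Dieu.BC Wf M, Dieu.BC.castHom e (Dieu.BC.push Wf Wl z) = Dieu.BC.push Wf Wr z ↔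
        z ∈ Set.range (Dieu.BC.ι Wf M) := by
  let f₀ : WittVector p S →ₗ[WittVector p S] Dieu.Res Wf :=
    { toFun := fun a => Dieu.Res.mk Wf (Wf a)
      map_add' := fun a b => by rw [map_add]; rfl
      map_smul' := fun c a => by rw [smul_eq_mul, map_mul, RingHom.id_apply, Dieu.Res.smul_mk] }
  let d : Dieu.Res Wf →ₗ[WittVector p S] Dieu.Res ((Wr).comp (Wf)) :=
    { toFun := fun t => Dieu.Res.mk _ (Wl t.val - Wr t.val)
      map_add' := fun a b => (congrArg (Dieu.Res.mk _) (by rw [Dieu.Res.val_add, map_add, map_add]; ring)).trans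
        (Dieu.Res.mk_add _ _ _)
      map_smul' := fun c t => by
        rw [Dieu.Res.val_smul, map_mul, map_mul, RingHom.id_apply, Dieu.Res.smul_mk, mul_sub]
        have h := RingHom.congr_fun e c
        simp only [RingHom.comp_apply] at h
        rw [h]
        rfl }
  have hf₀ : Function.Injective f₀ := fun a b h => witt_map_injective (congrArg (fun t : Dieu.Res Wf => t.val) h)
  have hex : Function.Exact f₀ d := fun t => by
    constructor
    · intro h
      obtain ⟨a, ha⟩ := witt_eq_map_of_eq (sub_eq_zero.1 (congrArg (fun t : Dieu.Res ((Wr).comp (Wf)) => t.val) h))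
      exact ⟨a, congrArg (Dieu.Res.mk Wf) ha⟩
    · rintro ⟨a, rfl⟩
      exact congrArg (Dieu.Res.mk ((Wr).comp (Wf))) (show Wl (Wf a) - Wr (Wf a) = (0 : WittVector p (TensorProduct S R R)) from sub_eq_zero.2 (RingHom.congr_fun e a))
  have hι : ∀ x, Dieu.BC.ι Wf M x = f₀.rTensor M ((1 : WittVector p S) ⊗ₜ x) := fun x => by
    rw [LinearMap.rTensor_tmul, Dieu.BC.ι_apply]
    show Dieu.BC.tmul Wf 1 x = Dieu.Res.mk Wf (Wf 1) ⊗ₜ x
    rw [map_one]
    rfl
  have hd : ∀ z, d.rTensor M z = Dieu.BC.castHom e (Dieu.BC.push Wf Wl z) - Dieu.BC.push Wf Wr z := fun z => by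
    induction z using Dieu.BC.induction_on with
    | zero => rw [map_zero, map_zero, map_zero, sub_zero]; exact map_zero (d.rTensor M)
    | tmul b x =>
      rw [Dieu.BC.push_tmul, Dieu.BC.push_tmul, Dieu.BC.castHom_tmul]
      show (d.rTensor M) (Dieu.Res.mk Wf b ⊗ₜ x) = _
      rw [LinearMap.rTensor_tmul]
      show Dieu.Res.mk _ (Wl b - Wr b) ⊗ₜ x = Dieu.Res.mk _ (Wl b) ⊗ₜ x - Dieu.Res.mk _ (Wr b) ⊗ₜ x
      exact TensorProduct.sub_tmul (Dieu.Res.mk _ (Wl b)) (Dieu.Res.mk _ (Wr b)) x
    | add a b ha hb =>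
      refine (map_add (d.rTensor M) a b).trans ((congrArg₂ (· + ·) ha hb).trans ?_)
      rw [map_add (Dieu.BC.push Wf Wl), map_add (Dieu.BC.push Wf Wr), map_add]
      exact (add_sub_add_comm _ _ _ _).symm
  refine ⟨fun a b hab => ?_, fun z => ⟨fun h => ?_, fun h => ?_⟩⟩
  · have h1 := Module.Flat.rTensor_preserves_injective_linearMap (M := M) f₀ hf₀ ((hι a).symm.trans (hab.trans (hι b)))
    simpa using congrArg (TensorProduct.lid (WittVector p S) M) h1
  · obtain ⟨t, ht⟩ := ((Module.Flat.rTensor_exact M hex) z).1 ((hd z).trans (sub_eq_zero.2 h))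
    refine ⟨TensorProduct.lid (WittVector p S) M t, ?_⟩
    rw [hι, ← ht]
    refine congrArg _ ?_
    exact ((TensorProduct.lid (WittVector p S) M).eq_symm_apply.2 rfl).symm.trans rfl |>.trans rfl
  · obtain ⟨x, rfl⟩ := h
    exact sub_eq_zero.1 ((hd _).symm.trans (((Module.Flat.rTensor_exact M hex) _).2 ⟨_, (hι x).symm⟩))

end GrothLib.DispRigid
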