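import Groth.Prelude.Def_Disp2
import Groth.Agent.Lib.DispRigid.WittDescent
import Groth.Agent.S16542
import Mathlib

/-!
# Descent of homomorphisms of displays
-/

universe u v

namespace GrothLib.DispRigid

theorem castHom_castHom {A B : Type u} [CommRing A] [CommRing B] {P : Type v} [AddCommGroup P] [Module A P]
    {g g' g'' : A →+* B} (e : g = g') (e' : g' = g'') (z : Dieu.BC g P) :
    Dieu.BC.castHom e' (Dieu.BC.castHom e z) = Dieu.BC.castHom (e.trans e') z := by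
  subst e e'; rfl

theorem castHom_injective {A B : Type u} [CommRing A] [CommRing B] {P : Type v} [AddCommGroup P] [Module A P]
    {g g' : A →+* B} (e : g = g') : Function.Injective (Dieu.BC.castHom e : Dieu.BC g P →ₗ[B] Dieu.BC g' P) := by
  subst e; exact fun _ _ h => h

variable {p : ℕ} [Fact p.Prime] {S R : Type u} [CommRing S] [CommRing R] [Algebra S R] [Module.FaithfullyFlat S R]
  {P P' : Type v} [AddCommGroup P] [Module (WittVector p S) P] [AddCommGroup P'] [Module (WittVector p S) P']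

local notation "Wf" => (WittVector.map (algebraMap S R) : WittVector p S →+* WittVector p R)
local notation "Wl" => (WittVector.map (Algebra.TensorProduct.includeLeftRingHom : R →+* TensorProduct S R R) : WittVector p R →+* WittVector p (TensorProduct S R R))
local notation "Wr" => (WittVector.map ((Algebra.TensorProduct.includeRight : R →ₐ[S] TensorProduct S R R) : R →+* TensorProduct S R R) : WittVector p R →+* WittVector p (TensorProduct S R R))
local notation "Wg" => (WittVector.map (algebraMap S (TensorProduct S R R)) : WittVector p S →+* WittVector p (TensorProduct S R R))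

theorem existsUnique_hom_descent (hp : IsNilpotent (p : S))
    (e₁ : (Wl).comp (Wf) = Wg) (e₂ : (Wr).comp (Wf) = Wg)
    (D : W4c1extbt610.Display3n p S P) (D' : W4c1extbt610.Display3n p S P') (hD' : Dieu.IsDisplay D')
    (DR : W4c1extbt610.Display3n p R (Dieu.BC Wf P)) (hDR : Dieu.IsDispBaseChange (algebraMap S R) D DR)
    (DR' : W4c1extbt610.Display3n p R (Dieu.BC Wf P')) (hDR' : Dieu.IsDispBaseChange (algebraMap S R) D' DR')
    (χ : Dieu.BC Wf P →ₗ[WittVector p R] Dieu.BC Wf P') (hχ : W4c1extbt610.IsHom DR DR' χ)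
    (hdesc : ∀ (z₁ : Dieu.BC Wl (Dieu.BC Wf P)) (z₂ : Dieu.BC Wr (Dieu.BC Wf P)),
      (Dieu.BC.castHom (P := P) e₁).comp (Dieu.BC.lift Wl (Dieu.BC.push Wf Wl)) z₁
        = (Dieu.BC.castHom (P := P) e₂).comp (Dieu.BC.lift Wr (Dieu.BC.push Wf Wr)) z₂ →
      (Dieu.BC.castHom (P := P') e₁).comp (Dieu.BC.lift Wl (Dieu.BC.push Wf Wl)) (Dieu.BC.map Wl χ z₁)
        = (Dieu.BC.castHom (P := P') e₂).comp (Dieu.BC.lift Wr (Dieu.BC.push Wf Wr)) (Dieu.BC.map Wr χ z₂)) :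
    ∃! ψ : P →ₗ[WittVector p S] P', W4c1extbt610.IsHom D D' ψ ∧ Dieu.BC.map Wf ψ = χ := by
  have hproj : Module.Projective (WittVector p S) P' := D'.projective
  have hflat : Module.Flat (WittVector p S) P' := Module.Flat.of_projective (R := WittVector p S) (M := P')
  have e := e₁.trans e₂.symm
  obtain ⟨hinj, heq⟩ := @descent_exact p _ S R _ _ _ _ P' _ _ hflat e
  have hex : ∀ x : P, χ (Dieu.BC.tmul Wf 1 x) ∈ Set.range (Dieu.BC.ι Wf P') := fun x => by
    refine (heq _).1 (castHom_injective e₂ ?_)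
    rw [castHom_castHom]
    have h := hdesc (Dieu.BC.tmul Wl 1 (Dieu.BC.tmul Wf 1 x)) (Dieu.BC.tmul Wr 1 (Dieu.BC.tmul Wf 1 x)) (by
      rw [LinearMap.comp_apply, LinearMap.comp_apply, Dieu.BC.lift_tmul, Dieu.BC.lift_tmul, one_smul, one_smul,
        Dieu.BC.push_tmul, Dieu.BC.push_tmul, Dieu.BC.castHom_tmul, Dieu.BC.castHom_tmul, map_one, map_one])
    rw [LinearMap.comp_apply, LinearMap.comp_apply, Dieu.BC.map_tmul, Dieu.BC.map_tmul, Dieu.BC.lift_tmul,
      Dieu.BC.lift_tmul, one_smul, one_smul] at h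
    exact h
  choose ψ hψ using hex
  have hψ' : ∀ x, Dieu.BC.tmul Wf 1 (ψ x) = χ (Dieu.BC.tmul Wf 1 x) := hψ
  let ψl : P →ₗ[WittVector p S] P' :=
    { toFun := ψ
      map_add' := fun x y => hinj (by rw [map_add, hψ, hψ, hψ, Dieu.BC.tmul_add, map_add])
      map_smul' := fun a x => hinj (by
        rw [RingHom.id_apply, hψ, map_smulₛₗ, hψ, ← map_smul, ← Dieu.BC.tmul_apply_eq, Dieu.BC.smul_tmul, mul_one]) }
  have hmap : Dieu.BC.map Wf ψl = χ := Dieu.BC.ext Wf fun x => by rw [Dieu.BC.map_tmul]; exact hψ' x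
  have hQD : ∀ x ∈ D.Q, Dieu.BC.tmul Wf 1 x ∈ DR.Q := fun x hx => by
    rw [hDR.Q_eq, LinearMap.mem_ker, Dieu.bcQuotMap_tmul, Submodule.mkQ_apply,
      (Submodule.Quotient.mk_eq_zero _).2 hx, Dieu.BC.tmul_zero]
  have hmaps : ∀ q : P, q ∈ D.Q → ψl q ∈ D'.Q := fun q hq => by
    refine (Groth.Agent.S16542.result p S R hp P' D' hD' DR' hDR' (ψl q)).2 ?_
    show Dieu.BC.tmul Wf 1 (ψ q) ∈ DR'.Q
    rw [hψ']
    exact hχ.mapsTo _ (hQD q hq)
  have hhom : W4c1extbt610.IsHom D D' ψl := by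
    refine ⟨hmaps, fun x => hinj ?_, fun q => hinj ?_⟩
    · show Dieu.BC.tmul Wf 1 (ψ (D.F x)) = Dieu.BC.tmul Wf 1 (D'.F (ψ x))
      have h1 : DR.F (Dieu.BC.tmul Wf 1 x) = Dieu.BC.tmul Wf 1 (D.F x) := by rw [hDR.F_tmul, map_one]
      rw [hψ', ← h1, hχ.comm_F, ← hψ', hDR'.F_tmul, map_one]
    · show Dieu.BC.tmul Wf 1 (ψ (D.Vinv q)) = Dieu.BC.tmul Wf 1 (D'.Vinv ⟨ψ (q : P), hmaps q q.2⟩)
      have h1 : DR.Vinv ⟨_, hQD q q.2⟩ = Dieu.BC.tmul Wf 1 (D.Vinv q) := by rw [hDR.Vinv_tmul 1 q, map_one]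
      have hm : Dieu.BC.tmul Wf 1 (ψ (q : P)) ∈ DR'.Q := by rw [hψ']; exact hχ.mapsTo _ (hQD q q.2)
      have h2 : DR'.Vinv ⟨_, hm⟩ = Dieu.BC.tmul Wf 1 (D'.Vinv ⟨ψ (q : P), hmaps q q.2⟩) :=
        (hDR'.Vinv_tmul 1 ⟨ψ (q : P), hmaps q q.2⟩ hm).trans (by rw [map_one])
      rw [hψ', ← h1, hχ.comm_Vinv, ← h2]
      exact congrArg DR'.Vinv (Subtype.ext (hψ' _).symm)
  refine ⟨ψl, ⟨hhom, hmap⟩, fun φ hφ => LinearMap.ext fun x => hinj ?_⟩
  show Dieu.BC.tmul Wf 1 (φ x) = Dieu.BC.tmul Wf 1 (ψ x)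
  rw [hψ', ← hφ.2, Dieu.BC.map_tmul]

end GrothLib.DispRigid
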