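import Groth.Agent.Lib.DispRigid.Witt
import Groth.Prelude.Def_Disp2
import Mathlib

/-!
# Rigidity of displays: one step of the filtration
-/

universe u v

open WittVector W4c1extbt610

namespace GrothLib.DispRigid

variable {p : ℕ} [hp : Fact p.Prime] {S : Type u} [CommRing S]

theorem p_mem_IV_sup : (p : WittVector p S) ∈ IV p S ⊔ Ideal.span {(p : WittVector p S)} :=
  Ideal.mem_sup_right (Ideal.mem_span_singleton_self _)

section Mk

variable {P : Type v} [AddCommGroup P] [Module (WittVector p S) P]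

/-- multiplying `W(K) ⊗ P` into `P` is injective for `P` projective -/
theorem lift_lsmul_injective (K : Ideal S) [Module.Projective (WittVector p S) P] :
    Function.Injective (TensorProduct.lift ((LinearMap.lsmul (WittVector p S) P) ∘ₗ (WK p K).subtype)) := by
  have h : TensorProduct.lift ((LinearMap.lsmul (WittVector p S) P) ∘ₗ (WK p K).subtype) =
      (TensorProduct.lid _ P).toLinearMap ∘ₗ (WK p K).subtype.rTensor P := by ext; simp
  rw [h, LinearMap.coe_comp, LinearEquiv.coe_coe]
  haveI hflat : Module.Flat (WittVector p S) P := Module.Flat.of_projective (R := WittVector p S) (M := P)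
  have hsub : Function.Injective (WK p K).subtype := Subtype.val_injective
  have h3 : Function.Injective ((WK p K).subtype.rTensor P) :=
    Module.Flat.rTensor_preserves_injective_linearMap _ hsub
  exact Function.Injective.comp (TensorProduct.lid (WittVector p S) P).injective h3

theorem range_lift_lsmul (K : Ideal S) :
    LinearMap.range (TensorProduct.lift ((LinearMap.lsmul (WittVector p S) P) ∘ₗ (WK p K).subtype)) =
      WK p K • (⊤ : Submodule (WittVector p S) P) := by
  refine le_antisymm ?_ (Submodule.smul_le.2 fun r hr x _ => ⟨⟨r, hr⟩ ⊗ₜ x, rfl⟩)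
  rintro _ ⟨t, rfl⟩
  induction t using TensorProduct.induction_on with
  | zero => simp
  | add a b ha hb => rw [map_add]; exact add_mem ha hb
  | tmul a x => exact Submodule.smul_mem_smul a.2 Submodule.mem_top

end Mk

/-- `V⁻¹` and the shift operator agree on `Q ∩ W(J) P`, modulo `W(J') P` -/
theorem exists_decomp {P : Type v} [AddCommGroup P] [Module (WittVector p S) P] (D : Display3n p S P)
    (K : Ideal S) {z : P} (hz : z ∈ WK p K • (⊤ : Submodule (WittVector p S) P)) (hzQ : z ∈ D.Q) :
    ∃ l ∈ WK p K • D.Q, ∃ (s : Finset P) (η : P → WittVector p S), (∀ e ∈ s, η e ∈ WK p K) ∧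
      z = l + ∑ e ∈ s, verschiebung (η e) • e := by
  classical
  haveI := D.projective
  obtain ⟨L, T, hLT, hQ⟩ := D.exists_normal
  rw [hQ] at hzQ
  obtain ⟨l, hl, t, ht, rfl⟩ := Submodule.mem_sup.1 hzQ
  have htT : t ∈ T := Submodule.smul_le_right ht
  have hproj : ∀ {P' : Submodule (WittVector p S) P} (φ : P →ₗ[WittVector p S] P'),
      Subtype.val (φ (l + t)) ∈ WK p K • P' := fun {P'} φ => by
    have h1 : φ (l + t) ∈ WK p K • (⊤ : Submodule (WittVector p S) P') := by
      have h := Submodule.mem_map_of_mem (f := φ) hz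
      rw [Submodule.map_smul''] at h
      exact Submodule.smul_mono le_rfl le_top h
    have h2 := Submodule.mem_map_of_mem (f := P'.subtype) h1
    rwa [Submodule.map_smul'', Submodule.map_subtype_top] at h2
  have hlK : l ∈ WK p K • L := by
    have h := hproj (L.projectionOnto T hLT)
    rwa [map_add, Submodule.projectionOnto_apply_left hLT ⟨l, hl⟩,
      Submodule.projectionOnto_apply_right hLT ⟨t, htT⟩, add_zero] at h
  have htK : t ∈ WK p K • T := by
    have h := hproj (T.projectionOnto L hLT.symm)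
    rwa [map_add, Submodule.projectionOnto_apply_left hLT.symm ⟨t, htT⟩,
      Submodule.projectionOnto_apply_right hLT.symm ⟨l, hl⟩, zero_add] at h
  haveI : Module.Projective (WittVector p S) T :=
    Module.Projective.of_split T.subtype (T.projectionOnto L hLT.symm)
      (LinearMap.ext fun x => Submodule.projectionOnto_apply_left hLT.symm x)
  obtain ⟨sec, hsec⟩ := Module.projective_def.1 (inferInstance : Module.Projective (WittVector p S) T)
  have hcoord : ∀ (I : Ideal (WittVector p S)) (i : T), t ∈ I • T → sec ⟨t, htT⟩ i ∈ I := fun I i h => by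
    have h' : (⟨t, htT⟩ : T) ∈ I • (⊤ : Submodule (WittVector p S) T) := by
      rw [← Submodule.map_subtype_top T, ← Submodule.map_smul''] at h
      obtain ⟨y, hy, hyt⟩ := h
      exact (Subtype.ext hyt : y = ⟨t, htT⟩) ▸ hy
    refine Submodule.smul_induction_on h' (fun r hr y _ => ?_) fun a b ha hb => ?_
    · rw [map_smul, Finsupp.smul_apply]; exact I.mul_mem_right _ hr
    · rw [map_add, Finsupp.add_apply]; exact I.add_mem ha hb
  let f := sec ⟨t, htT⟩
  refine ⟨l, Submodule.smul_mono le_rfl (hQ ▸ le_sup_left) hlK,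
    f.support.image Subtype.val, fun e => if h : e ∈ T then (f ⟨e, h⟩).shift 1 else 0, fun e he => ?_, ?_⟩
  · obtain ⟨i, -, rfl⟩ := Finset.mem_image.1 he
    simp only [dif_pos i.2, Subtype.coe_eta]
    exact shift_mem_WK (hcoord _ i htK)
  · congr 1
    rw [Finset.sum_image fun a _ b _ h => Subtype.ext h]
    have h0 : (Finsupp.linearCombination (WittVector p S) id) f = (⟨t, htT⟩ : T) := hsec ⟨t, htT⟩
    rw [Finsupp.linearCombination_apply, Finsupp.sum] at h0
    have h1 := congrArg (fun y : T => (y : P)) h0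
    simp only [AddSubmonoidClass.coe_finsetSum, SetLike.val_smul, id_eq] at h1
    rw [← h1]
    refine Finset.sum_congr rfl fun i _ => ?_
    simp only [dif_pos i.2, Subtype.coe_eta]
    rw [eq_verschiebung_shift (x := f i) (coeff_zero_eq_zero_of_mem_IV (hcoord _ i ht))]

section Step

variable {J J' : Ideal S} (hJJ : J * J ≤ J') (hpJ : Ideal.span {(p : S)} * J ≤ J')
variable {P : Type v} [AddCommGroup P] [Module (WittVector p S) P]

variable (J) in
/-- `W(J) P` -/
noncomputable abbrev WJP : Submodule (WittVector p S) P := WK p J • (⊤ : Submodule (WittVector p S) P)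

variable (p J J') in
/-- `W(J) P / W(J') P` -/
abbrev Gr (P : Type v) [AddCommGroup P] [Module (WittVector p S) P] : Type v :=
  (WJP J : Submodule (WittVector p S) P) ⧸
    (WJP J' : Submodule (WittVector p S) P).comap (WJP J : Submodule (WittVector p S) P).subtype

theorem gr_mk_eq_mk {x y : (WJP J : Submodule (WittVector p S) P)}
    (h : (x : P) - y ∈ (WJP J' : Submodule (WittVector p S) P)) :
    (Submodule.Quotient.mk x : Gr p J J' P) = Submodule.Quotient.mk y :=
  (Submodule.Quotient.eq _).2 h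

include hJJ hpJ

theorem smul_gr_eq_zero {c : WittVector p S} (hc : c ∈ IV p S ⊔ Ideal.span {(p : WittVector p S)})
    (z : Gr p J J' P) : c • z = 0 := by
  obtain ⟨⟨y, hy⟩, rfl⟩ := Submodule.Quotient.mk_surjective _ z
  rw [← Submodule.Quotient.mk_smul, Submodule.Quotient.mk_eq_zero]
  show c • y ∈ (WJP J' : Submodule (WittVector p S) P)
  refine Submodule.smul_induction_on hy (fun r hr x _ => ?_) fun a b ha hb => ?_
  · rw [smul_smul]
    exact Submodule.smul_mem_smul (mul_mem_of_mem_IV_sup hJJ hpJ hc hr) Submodule.mem_top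
  · rw [smul_add]; exact add_mem ha hb

/-- the extension of `V⁻¹` to `W(J) P` modulo `W(J') P` -/
theorem exists_T (hJ'J : J' ≤ J) (D : Display3n p S P) :
    ∃ T : Gr p J J' P →ₛₗ[(frobenius : WittVector p S →+* WittVector p S)] Gr p J J' P,
      ∀ (z : P) (hz : z ∈ (WJP J : Submodule (WittVector p S) P)) (hq : z ∈ D.Q),
        ∃ hv : D.Vinv ⟨z, hq⟩ ∈ (WJP J : Submodule (WittVector p S) P),
          T (Submodule.Quotient.mk ⟨z, hz⟩) = Submodule.Quotient.mk ⟨D.Vinv ⟨z, hq⟩, hv⟩ := by
  classical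
  haveI := D.projective
  let mu := TensorProduct.lift ((LinearMap.lsmul (WittVector p S) P) ∘ₗ (WK p J).subtype)
  let e : TensorProduct (WittVector p S) (WK p J) P ≃ₗ[WittVector p S] (WJP J : Submodule (WittVector p S) P) :=
    (LinearEquiv.ofInjective mu (lift_lsmul_injective J)).trans (LinearEquiv.ofEq _ _ (range_lift_lsmul J))
  have he : ∀ (ξ : WK p J) (x : P), (e (ξ ⊗ₜ x) : P) = (ξ : WittVector p S) • x := fun ξ x => rfl
  let cl : (WK p J) → P → Gr p J J' P := fun ξ x =>
    Submodule.Quotient.mk ⟨(ξ : WittVector p S).shift 1 • x, Submodule.smul_mem_smul (shift_mem_WK ξ.2) Submodule.mem_top⟩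
  let bil : (WK p J) →ₛₗ[(frobenius : WittVector p S →+* WittVector p S)]
      P →ₛₗ[(frobenius : WittVector p S →+* WittVector p S)] Gr p J J' P :=
    LinearMap.mk₂'ₛₗ frobenius frobenius (fun ξ x => cl ξ (D.F x))
      (fun a b x => (gr_mk_eq_mk (y := ⟨(a : WittVector p S).shift 1 • D.F x + (b : WittVector p S).shift 1 • D.F x,
          add_mem (Submodule.smul_mem_smul (shift_mem_WK a.2) Submodule.mem_top) (Submodule.smul_mem_smul (shift_mem_WK b.2) Submodule.mem_top)⟩) (by
        show ((a : WittVector p S) + b).shift 1 • D.F x - ((a : WittVector p S).shift 1 • D.F x + (b : WittVector p S).shift 1 • D.F x) ∈ _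
        rw [← add_smul, ← sub_smul]
        exact Submodule.smul_mem_smul (shift_add hJJ hpJ a.2 b.2) Submodule.mem_top)).trans rfl)
      (fun c a x => (gr_mk_eq_mk (y := ⟨frobenius c • ((a : WittVector p S).shift 1 • D.F x),
          Submodule.smul_mem _ _ (Submodule.smul_mem_smul (shift_mem_WK a.2) Submodule.mem_top)⟩) (by
        show (c * (a : WittVector p S)).shift 1 • D.F x - frobenius c • ((a : WittVector p S).shift 1 • D.F x) ∈ _
        rw [smul_smul, ← sub_smul]
        exact Submodule.smul_mem_smul (shift_mul hJJ hpJ c a.2) Submodule.mem_top)).trans rfl)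
      (fun a x y => (congrArg Submodule.Quotient.mk (Subtype.ext (by
        show (a : WittVector p S).shift 1 • D.F (x + y) = _
        rw [map_add, smul_add]; rfl))).trans (Submodule.Quotient.mk_add _))
      (fun c a x => (congrArg Submodule.Quotient.mk (Subtype.ext (by
        show (a : WittVector p S).shift 1 • D.F (c • x) = frobenius c • ((a : WittVector p S).shift 1 • D.F x)
        rw [map_smulₛₗ, smul_comm]))).trans (Submodule.Quotient.mk_smul _ _ _))
  let T₀ : (WJP J : Submodule (WittVector p S) P) →ₛₗ[(frobenius : WittVector p S →+* WittVector p S)] Gr p J J' P :=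
    (TensorProduct.lift bil).comp e.symm.toLinearMap
  have hT₀ : ∀ (ξ : WK p J) (x : P) (y : (WJP J : Submodule (WittVector p S) P)), (y : P) = (ξ : WittVector p S) • x →
      T₀ y = cl ξ (D.F x) := fun ξ x y hy => by
    have : y = e (ξ ⊗ₜ x) := Subtype.ext hy
    subst this
    show TensorProduct.lift bil (e.symm (e (ξ ⊗ₜ x))) = _
    rw [e.symm_apply_apply, TensorProduct.lift.tmul]
    rfl
  have hker : (WJP J' : Submodule (WittVector p S) P).comap (WJP J : Submodule (WittVector p S) P).subtype ≤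
      LinearMap.ker T₀ := by
    intro ⟨y, hy⟩ hy'
    replace hy' : y ∈ (WJP J' : Submodule (WittVector p S) P) := hy'
    have : ∃ h : y ∈ (WJP J : Submodule (WittVector p S) P), T₀ ⟨y, h⟩ = 0 := by
      refine Submodule.smul_induction_on hy' (fun r hr x _ => ?_) fun a b ⟨ha, ha'⟩ ⟨hb, hb'⟩ => ?_
      · refine ⟨Submodule.smul_mem_smul (WK_mono hJ'J hr) Submodule.mem_top, ?_⟩
        rw [hT₀ ⟨r, WK_mono hJ'J hr⟩ x _ rfl]
        exact (Submodule.Quotient.mk_eq_zero _).2 (Submodule.smul_mem_smul (shift_mem_WK hr) Submodule.mem_top)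
      · exact ⟨add_mem ha hb, by rw [show (⟨a + b, add_mem ha hb⟩ : (WJP J : Submodule (WittVector p S) P)) = ⟨a, ha⟩ + ⟨b, hb⟩ from rfl, map_add, ha', hb', add_zero]⟩
    exact this.2
  refine ⟨Submodule.liftQ _ T₀ hker, ?_⟩
  have hV : ∀ (z : P), z ∈ (WJP J : Submodule (WittVector p S) P) → ∀ hq : z ∈ D.Q,
      ∃ (h1 : z ∈ (WJP J : Submodule (WittVector p S) P)) (h2 : D.Vinv ⟨z, hq⟩ ∈ (WJP J : Submodule (WittVector p S) P)),
        T₀ ⟨z, h1⟩ = Submodule.Quotient.mk ⟨D.Vinv ⟨z, hq⟩, h2⟩ := by
    intro z hz hq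
    -- closed under addition
    let Good : P → Prop := fun z => ∃ (h0 : z ∈ D.Q) (h1 : z ∈ (WJP J : Submodule (WittVector p S) P))
      (h2 : D.Vinv ⟨z, h0⟩ ∈ (WJP J : Submodule (WittVector p S) P)),
        T₀ ⟨z, h1⟩ = Submodule.Quotient.mk ⟨D.Vinv ⟨z, h0⟩, h2⟩
    have hadd : ∀ a b, Good a → Good b → Good (a + b) := by
      rintro a b ⟨a0, a1, a2, ha⟩ ⟨b0, b1, b2, hb⟩
      have e : D.Vinv ⟨a + b, add_mem a0 b0⟩ = D.Vinv ⟨a, a0⟩ + D.Vinv ⟨b, b0⟩ := map_add D.Vinv ⟨a, a0⟩ ⟨b, b0⟩
      refine ⟨add_mem a0 b0, add_mem a1 b1, e ▸ add_mem a2 b2, ?_⟩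
      rw [show (⟨a + b, add_mem a1 b1⟩ : (WJP J : Submodule (WittVector p S) P)) = ⟨a, a1⟩ + ⟨b, b1⟩ from rfl,
        map_add, ha, hb, ← Submodule.Quotient.mk_add]
      exact congrArg _ (Subtype.ext e.symm)
    have hzero : Good 0 := by
      have e : D.Vinv ⟨0, zero_mem _⟩ = 0 := map_zero D.Vinv
      refine ⟨zero_mem _, zero_mem _, by rw [e]; exact zero_mem _, ?_⟩
      rw [show (⟨0, zero_mem _⟩ : (WJP J : Submodule (WittVector p S) P)) = 0 from rfl, map_zero, eq_comm,
        Submodule.Quotient.mk_eq_zero]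
      show D.Vinv ⟨0, zero_mem _⟩ ∈ (WJP J' : Submodule (WittVector p S) P)
      rw [e]; exact zero_mem _
    have hsmulQ : ∀ r ∈ WK p J, ∀ l ∈ D.Q, Good (r • l) := by
      intro r hr l hl
      have e : D.Vinv ⟨r • l, D.Q.smul_mem r hl⟩ = frobenius r • D.Vinv ⟨l, hl⟩ :=
        map_smulₛₗ D.Vinv r ⟨l, hl⟩
      have hm : frobenius r • D.Vinv ⟨l, hl⟩ ∈ (WJP J' : Submodule (WittVector p S) P) :=
        Submodule.smul_mem_smul (frobenius_mem hJJ hpJ hr) Submodule.mem_top
      refine ⟨D.Q.smul_mem r hl, Submodule.smul_mem_smul hr Submodule.mem_top,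
        e ▸ Submodule.smul_mono_left (WK_mono hJ'J) hm, ?_⟩
      rw [hT₀ ⟨r, hr⟩ l _ rfl]
      refine gr_mk_eq_mk ?_
      show r.shift 1 • D.F l - D.Vinv ⟨r • l, _⟩ ∈ _
      rw [e]
      refine sub_mem ?_ hm
      have hF : D.F l = (p : WittVector p S) • D.Vinv ⟨l, hl⟩ := by
        have h := D.Vinv_verschiebung_smul 1 l
        rw [one_smul] at h
        rw [← h, ← one_mul (p : WittVector p S), ← frobenius_verschiebung (1 : WittVector p S),
          ← map_smulₛₗ D.Vinv (verschiebung (1 : WittVector p S)) ⟨l, hl⟩]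
        rfl
      rw [hF, smul_smul]
      exact Submodule.smul_mem_smul (mul_natCast_mem hJJ hpJ (shift_mem_WK hr)) Submodule.mem_top
    have hsmulV : ∀ η ∈ WK p J, ∀ x : P, Good (verschiebung η • x) := by
      intro η hη x
      have e := D.Vinv_verschiebung_smul η x
      refine ⟨_, Submodule.smul_mem_smul (verschiebung_mem_WK hη) Submodule.mem_top,
        e ▸ Submodule.smul_mem_smul hη Submodule.mem_top, ?_⟩
      rw [hT₀ ⟨verschiebung η, verschiebung_mem_WK hη⟩ x _ rfl]
      refine congrArg _ (Subtype.ext ?_)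
      show (verschiebung η).shift 1 • D.F x = _
      rw [shift_verschiebung]
      exact e.symm
    obtain ⟨l, hl, s, η, hη, rfl⟩ := exists_decomp D J hz hq
    have hgood : Good (l + ∑ e ∈ s, verschiebung (η e) • e) := by
      refine hadd _ _ ?_ (Finset.sum_induction _ Good hadd hzero fun e he => hsmulV _ (hη e he) e)
      exact Submodule.smul_induction_on hl hsmulQ hadd
    obtain ⟨h0, h1, h2, h⟩ := hgood
    exact ⟨h1, h2, h⟩
  intro z hz hq
  obtain ⟨h1, h2, h⟩ := hV z hz hq
  exact ⟨h2, (Submodule.liftQ_apply _ T₀ ⟨z, hz⟩).trans h⟩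

end Step

section Injective

variable {J J' : Ideal S} (hJJ : J * J ≤ J') (hpJ : Ideal.span {(p : S)} * J ≤ J')
variable {P P' : Type v} [AddCommGroup P] [Module (WittVector p S) P] [AddCommGroup P'] [Module (WittVector p S) P']

include hJJ hpJ

/-- one step of rigidity -/
theorem hom_mem_step (hJ'J : J' ≤ J) (D : Display3n p S P) (hD : Dieu.IsDisplay D) (D' : Display3n p S P')
    (ψ : P →ₗ[WittVector p S] P') (hψ : IsHom D D' ψ)
    (h : ∀ x, ψ x ∈ WK p J • (⊤ : Submodule (WittVector p S) P')) (x : P) :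
    ψ x ∈ WK p J' • (⊤ : Submodule (WittVector p S) P') := by
  obtain ⟨T, hT⟩ := exists_T hJJ hpJ hJ'J D'
  obtain ⟨Vs, hVs, n, hn⟩ := hD
  let u₀ : P →ₗ[WittVector p S] Gr p J J' P' :=
    (Submodule.mkQ _) ∘ₗ LinearMap.codRestrict (WJP J) ψ h
  let G : (P →ₗ[WittVector p S] Gr p J J' P') → (P →ₗ[WittVector p S] Gr p J J' P') := fun u =>
    (Dieu.BC.lift (frobenius : WittVector p S →+* WittVector p S) (T.comp u)).comp Vs
  have hfix : G u₀ = u₀ := by
    refine LinearMap.ext_on D.span_range_Vinv ?_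
    rintro _ ⟨y, rfl⟩
    have h1 : Vs (D.Vinv y) = Dieu.BC.tmul frobenius 1 (y : P) := by
      have := hVs.app_smul_Vinv 1 y
      rwa [one_smul] at this
    show Dieu.BC.lift frobenius (T.comp u₀) (Vs (D.Vinv y)) = u₀ (D.Vinv y)
    rw [h1, Dieu.BC.lift_tmul, one_smul]
    obtain ⟨hv, e⟩ := hT (ψ (y : P)) (h _) (hψ.mapsTo _ y.2)
    refine e.trans (congrArg _ (Subtype.ext ?_))
    exact (hψ.comm_Vinv y).symm
  have hpow : ∀ m, ∃ φ : P →ₛₗ[(frobenius : WittVector p S →+* WittVector p S) ^ (m + 1)] Gr p J J' P',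
      ∀ z, G^[m + 1] u₀ z = Dieu.BC.lift _ φ (Dieu.vSharpPow Vs m z) := by
    intro m
    induction m with
    | zero =>
      refine ⟨{ toFun := fun z => T (u₀ z)
                map_add' := fun a b => by simp only [map_add]
                map_smul' := fun c a => by rw [pow_one, map_smul, map_smulₛₗ] }, fun z => ?_⟩
      rw [Dieu.vSharpPow_zero_apply]
      show Dieu.BC.lift frobenius (T.comp u₀) (Vs z) = _
      induction Vs z using Dieu.BC.induction_on with
      | zero => simp
      | tmul b a => rw [Dieu.BC.castHom_tmul, Dieu.BC.lift_tmul, Dieu.BC.lift_tmul]; rfl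
      | add a b ha hb => simp only [map_add, ha, hb]
    | succ m ih =>
      obtain ⟨φ, hφ⟩ := ih
      refine ⟨{ toFun := fun z => T (φ z)
                map_add' := fun a b => by simp only [map_add]
                map_smul' := fun c a => by
                  rw [map_smulₛₗ, map_smulₛₗ, ← Dieu.comp_pow_eq_pow_succ _ (m + 1)]
                  rfl }, fun z => ?_⟩
      rw [Function.iterate_succ_apply', Dieu.vSharpPow_succ_apply]
      show Dieu.BC.lift frobenius (T.comp (G^[m + 1] u₀)) (Vs z) = _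
      induction Vs z using Dieu.BC.induction_on with
      | zero => simp
      | add a b ha hb => simp only [map_add, ha, hb]
      | tmul b a =>
        rw [Dieu.BC.lift_tmul, LinearMap.comp_apply, hφ, Dieu.BC.map_tmul, Dieu.BC.lift_tmul]
        induction Dieu.vSharpPow Vs m a using Dieu.BC.induction_on with
        | zero => simp
        | add a a' ha ha' => simp only [map_add, smul_add, ha, ha']
        | tmul c a =>
          rw [Dieu.BC.lift_tmul, Dieu.BC.push_tmul, Dieu.BC.smul_tmul, Dieu.BC.castHom_tmul, Dieu.BC.lift_tmul,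
            map_smulₛₗ, smul_smul]
          rfl
  obtain ⟨φ, hφ⟩ := hpow n
  have hiter : G^[n + 1] u₀ = u₀ := Function.iterate_fixed hfix (n + 1)
  have hx : u₀ x = 0 := by
    rw [← hiter, hφ]
    refine Submodule.smul_induction_on (hn x) (fun c hc z _ => ?_) fun a b ha hb => by rw [map_add, ha, hb, add_zero]
    rw [map_smul]
    exact smul_gr_eq_zero hJJ hpJ hc _
  have hx' : (Submodule.Quotient.mk (⟨ψ x, h x⟩ : (WJP J : Submodule (WittVector p S) P')) : Gr p J J' P') = 0 := hx
  have h3 := (Submodule.Quotient.mk_eq_zero _).1 hx'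
  exact h3

end Injective

/-- rigidity: a morphism which is zero modulo a nilpotent kernel is zero -/
theorem hom_eq_zero (hpn : IsNilpotent (p : S)) {K : Ideal S} (hK : IsNilpotent K)
    {P P' : Type v} [AddCommGroup P] [Module (WittVector p S) P] [AddCommGroup P'] [Module (WittVector p S) P']
    (D : Display3n p S P) (hD : Dieu.IsDisplay D) (D' : Display3n p S P')
    (ψ : P →ₗ[WittVector p S] P') (hψ : IsHom D D' ψ)
    (h : ∀ x, ψ x ∈ WK p K • (⊤ : Submodule (WittVector p S) P')) : ψ = 0 := by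
  obtain ⟨N, hN⟩ := exists_seq_eq_bot (p := p) hpn hK
  have hs : ∀ n x, ψ x ∈ WK p (seq p K n) • (⊤ : Submodule (WittVector p S) P') := by
    intro n
    induction n with
    | zero => exact h
    | succ n ih =>
      refine hom_mem_step (le_sup_left : seq p K n * seq p K n ≤ seq p K (n + 1)) le_sup_right ?_ D hD D' ψ hψ ih
      exact sup_le Ideal.mul_le_right Ideal.mul_le_right
  refine LinearMap.ext fun x => ?_
  have h2 := hs N x
  rwa [hN, WK_bot, Submodule.bot_smul, Submodule.mem_bot] at h2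

end GrothLib.DispRigid
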