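import Groth.Prelude.Def_Disp2
import Groth.Agent.Lib.DispRigid.Witt
import Groth.Agent.Lib.DispRigid.Step
import Mathlib

/-!
# Iterates of `V#` of a display and the truncation ideals
-/

universe u v

namespace GrothLib.DispRigid

open W4c1extbt610

variable {p : ℕ} [Fact p.Prime] {R : Type u} [CommRing R]

local notation "W" => WittVector p R
local notation "σ" => (WittVector.frobenius : WittVector p R →+* WittVector p R)

/-- the ideal `I_R + pW` -/
noncomputable def J1 (p : ℕ) [Fact p.Prime] (R : Type u) [CommRing R] : Ideal (WittVector p R) :=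
  IV p R ⊔ Ideal.span {(p : WittVector p R)}

theorem frobenius_mem_J1 {a : W} (ha : a ∈ J1 p R) : σ a ∈ J1 p R := by
  obtain ⟨u, hu, v, hv, rfl⟩ := Submodule.mem_sup.1 ha
  obtain ⟨c, rfl⟩ := Ideal.mem_span_singleton'.1 hv
  rw [map_add, map_mul, map_natCast]
  refine add_mem ?_ (Ideal.mem_sup_right (Ideal.mem_span_singleton'.2 ⟨_, rfl⟩))
  rw [← eq_verschiebung_shift (coeff_zero_eq_zero_of_mem_IV hu), WittVector.frobenius_verschiebung]
  exact Ideal.mem_sup_right (Ideal.mem_span_singleton'.2 ⟨_, rfl⟩)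

theorem pow_J1_stable (m k : ℕ) {a : W} (ha : a ∈ J1 p R ^ k) : (σ ^ m) a ∈ J1 p R ^ k := by
  have h1 : (J1 p R).map σ ≤ J1 p R := Ideal.map_le_iff_le_comap.2 fun x hx => frobenius_mem_J1 hx
  induction m with
  | zero => exact ha
  | succ m ih =>
    rw [← Dieu.comp_pow_eq_pow_succ, RingHom.comp_apply]
    have h2 : σ ((σ ^ m) a) ∈ (J1 p R ^ k).map σ := Ideal.mem_map_of_mem _ ih
    rw [Ideal.map_pow] at h2
    exact Ideal.pow_right_mono h1 k h2

theorem J1_mul_J1_le : J1 p R * J1 p R ≤ Ideal.span {(p : W)} * J1 p R := by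
  have hIV : IV p R * IV p R ≤ Ideal.span {(p : W)} * J1 p R := by
    refine Ideal.mul_le.2 fun a ha b hb => ?_
    rw [← eq_verschiebung_shift (coeff_zero_eq_zero_of_mem_IV ha), ← eq_verschiebung_shift (coeff_zero_eq_zero_of_mem_IV hb),
      ← WittVector.verschiebung_mul_frobenius, WittVector.frobenius_verschiebung, ← mul_assoc]
    have h : WittVector.verschiebung (a.shift 1 * b.shift 1 * (p : W))
        = (p : W) * WittVector.verschiebung (a.shift 1 * b.shift 1) := by
      rw [← nsmul_eq_mul', map_nsmul, nsmul_eq_mul]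
    rw [h]
    exact Ideal.mul_mem_mul (Ideal.mem_span_singleton_self _) (Ideal.mem_sup_left (verschiebung_mem_IV p R _))
  show (IV p R ⊔ _) * (IV p R ⊔ _) ≤ _
  rw [Ideal.sup_mul]
  refine sup_le ?_ (Ideal.mul_mono_right le_rfl)
  rw [Ideal.mul_sup]
  refine sup_le hIV ?_
  rw [mul_comm]
  exact Ideal.mul_mono_right le_sup_left

theorem J1_pow_le : ∀ k : ℕ, J1 p R ^ (k + 1) ≤ Ideal.span {(p : W) ^ k} * J1 p R
  | 0 => by simp
  | k + 1 => by
    rw [pow_succ]
    refine (Ideal.mul_mono_left (J1_pow_le k)).trans ?_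
    rw [mul_assoc, pow_succ (p : W) k, ← Ideal.span_singleton_mul_span_singleton, mul_assoc]
    exact Ideal.mul_mono_right J1_mul_J1_le

theorem exists_p_pow_mem_ker_truncate (hp : IsNilpotent (p : R)) (n : ℕ) :
    ∃ m : ℕ, (p : W) ^ m ∈ RingHom.ker (WittVector.truncate (p := p) (R := R) n) := by
  let K : Ideal R := Ideal.span {(p : R)}
  have hK : IsNilpotent K := by
    obtain ⟨a, ha⟩ := hp
    exact ⟨a, by rw [Ideal.span_singleton_pow, ha]; exact Ideal.span_singleton_eq_bot.2 rfl⟩
  obtain ⟨N, hN⟩ := exists_seq_eq_bot hp hK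
  let x : W := (p : W) ^ n
  have hx : WittVector.init n x ∈ WK p K := by
    refine mem_WK.2 fun i => ?_
    show (WittVector.init n x).coeff i ∈ K
    simp only [WittVector.init, WittVector.select, WittVector.coeff_mk]
    split_ifs with hi
    · refine Ideal.Quotient.eq_zero_iff_mem.1 ?_
      rcases subsingleton_or_nontrivial (R ⧸ K) with hs | hs
      · exact Subsingleton.elim _ _
      have hp0 : (p : R ⧸ K) = 0 := by
        rw [← map_natCast (Ideal.Quotient.mk K)]
        exact Ideal.Quotient.eq_zero_iff_mem.2 (Ideal.mem_span_singleton_self _)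
      haveI : CharP (R ⧸ K) p := (CharP.charP_iff_prime_eq_zero (Fact.out : p.Prime)).2 hp0
      rw [← WittVector.map_coeff, map_pow, map_natCast]
      exact WittVector.coeff_p_pow_eq_zero p (R ⧸ K) (by omega)
    · exact K.zero_mem
  have htr : WittVector.truncate n x = WittVector.truncate (p := p) n (WittVector.init n x) := by
    refine TruncatedWittVector.ext fun i => ?_
    show (WittVector.truncateFun n x).coeff i = (WittVector.truncateFun n (WittVector.init n x)).coeff i
    rw [WittVector.coeff_truncateFun, WittVector.coeff_truncateFun]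
    simp [WittVector.init, WittVector.select, WittVector.coeff_mk, i.2]
  refine ⟨N + n, ?_⟩
  rw [RingHom.mem_ker, pow_add, map_mul, htr, ← map_mul, pow_mul_eq_zero hN hx, map_zero]

variable {P : Type v} [AddCommGroup P] [Module (WittVector p R) P]

theorem pow_comp_pow (N m : ℕ) : ((σ ^ (m + 1)).comp (σ ^ (N + 1))) = σ ^ (N + 1 + m + 1) := by
  show (σ ^ (m + 1)) * (σ ^ (N + 1)) = _
  rw [← pow_add]
  congr 1
  omega

/-- the composition map -/
noncomputable def compMap (Vs : P →ₗ[W] Dieu.BC σ P) (N m : ℕ) :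
    Dieu.BC (σ ^ (m + 1)) P →ₗ[W] Dieu.BC (σ ^ (N + 1 + m + 1)) P :=
  (Dieu.BC.castHom (pow_comp_pow N m)).comp
    ((Dieu.BC.lift (σ ^ (m + 1)) (Dieu.BC.push (σ ^ (N + 1)) (σ ^ (m + 1)))).comp
      (Dieu.BC.map (σ ^ (m + 1)) (Dieu.vSharpPow Vs N)))

theorem compMap_tmul (Vs : P →ₗ[W] Dieu.BC σ P) (N m : ℕ) (w : W) (y : P) :
    compMap Vs N m (Dieu.BC.tmul _ w y) =
      w • Dieu.BC.castHom (pow_comp_pow N m) (Dieu.BC.push (σ ^ (N + 1)) (σ ^ (m + 1)) (Dieu.vSharpPow Vs N y)) := by
  rw [compMap, LinearMap.comp_apply, LinearMap.comp_apply, Dieu.BC.map_tmul, Dieu.BC.lift_tmul, map_smul]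

theorem vSharpPow_add (Vs : P →ₗ[W] Dieu.BC σ P) (N : ℕ) :
    ∀ (m : ℕ) (x : P), Dieu.vSharpPow Vs (N + 1 + m) x = compMap Vs N m (Dieu.vSharpPow Vs m x) := by
  intro m
  induction m with
  | zero =>
    intro x
    show Dieu.vSharpPow Vs (N + 1) x = _
    rw [Dieu.vSharpPow_succ_apply, Dieu.vSharpPow_zero_apply]
    generalize Vs x = t
    induction t using Dieu.BC.induction_on with
    | zero => simp
    | tmul w y =>
      rw [Dieu.BC.castHom_tmul, compMap_tmul, Dieu.BC.map_tmul, Dieu.BC.lift_tmul, map_smul]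
      refine congrArg (w • ·) ?_
      generalize Dieu.vSharpPow Vs N y = s
      induction s using Dieu.BC.induction_on with
      | zero => simp
      | tmul u q => rw [Dieu.BC.push_tmul, Dieu.BC.push_tmul, Dieu.BC.castHom_tmul, Dieu.BC.castHom_tmul]; rfl
      | add s₁ s₂ h₁ h₂ => simp only [map_add, h₁, h₂]
    | add t₁ t₂ h₁ h₂ => simp only [map_add, h₁, h₂]
  | succ m ih =>
    intro x
    show Dieu.vSharpPow Vs ((N + 1 + m) + 1) x = _
    rw [Dieu.vSharpPow_succ_apply, Dieu.vSharpPow_succ_apply]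
    generalize Vs x = t
    induction t using Dieu.BC.induction_on with
    | zero => simp
    | tmul w y =>
      rw [Dieu.BC.map_tmul, Dieu.BC.map_tmul, Dieu.BC.lift_tmul, Dieu.BC.lift_tmul, ih, map_smul, map_smul, map_smul]
      refine congrArg (w • ·) ?_
      generalize Dieu.vSharpPow Vs m y = s
      induction s using Dieu.BC.induction_on with
      | zero => simp
      | tmul u q =>
        rw [compMap_tmul, Dieu.BC.push_tmul, Dieu.BC.castHom_tmul, compMap_tmul]
        generalize Dieu.vSharpPow Vs N q = r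
        induction r using Dieu.BC.induction_on with
        | zero => simp
        | tmul c z =>
          rw [Dieu.BC.push_tmul, Dieu.BC.push_tmul, Dieu.BC.castHom_tmul, Dieu.BC.castHom_tmul, Dieu.BC.smul_tmul,
            Dieu.BC.smul_tmul, Dieu.BC.push_tmul, Dieu.BC.castHom_tmul, map_mul]
          have e : (σ ^ (m + 1 + 1)) c = σ ((σ ^ (m + 1)) c) := by
            rw [← Dieu.comp_pow_eq_pow_succ σ (m + 1), RingHom.comp_apply]
          rw [e]
          generalize σ u * σ ((σ ^ (m + 1)) c) = t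
          rfl
        | add r₁ r₂ h₁ h₂ => simp only [map_add, smul_add, h₁, h₂]
      | add s₁ s₂ h₁ h₂ => simp only [map_add, h₁, h₂]
    | add t₁ t₂ h₁ h₂ => simp only [map_add, h₁, h₂]

theorem exists_vSharpPow_mem_pow (Vs : P →ₗ[W] Dieu.BC σ P) (hnil : Dieu.IsVNilpotent Vs) :
    ∀ k : ℕ, ∃ N : ℕ, ∀ x : P, Dieu.vSharpPow Vs N x ∈
      (J1 p R ^ (k + 1)) • (⊤ : Submodule W (Dieu.BC (σ ^ (N + 1)) P)) := by
  obtain ⟨n₀, hn₀⟩ := hnil
  intro k
  induction k with
  | zero =>
    refine ⟨n₀, fun x => ?_⟩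
    rw [pow_one (J1 p R)]
    exact hn₀ x
  | succ k ih =>
    obtain ⟨N, hN⟩ := ih
    refine ⟨N + 1 + n₀, fun x => ?_⟩
    rw [vSharpPow_add]
    have hrange : ∀ z, compMap Vs N n₀ z ∈ (J1 p R ^ (k + 1)) • (⊤ : Submodule W _) := fun z => by
      induction z using Dieu.BC.induction_on with
      | zero => rw [map_zero]; exact zero_mem _
      | tmul w y =>
        rw [compMap_tmul]
        refine Submodule.smul_mem _ w ?_
        refine Submodule.smul_induction_on (hN y) (fun a ha t _ => ?_) (fun a b ha hb => ?_)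
        · rw [map_smulₛₗ, map_smul]
          exact Submodule.smul_mem_smul (pow_J1_stable _ _ ha) Submodule.mem_top
        · rw [map_add, map_add]; exact add_mem ha hb
      | add z₁ z₂ h₁ h₂ => rw [map_add]; exact add_mem h₁ h₂
    refine Submodule.smul_induction_on (hn₀ x) (fun a ha t _ => ?_) (fun a b ha hb => ?_)
    · rw [map_smul, pow_succ' (J1 p R) (k + 1), Submodule.mul_smul]
      exact Submodule.smul_mem_smul ha (hrange t)
    · rw [map_add]; exact add_mem ha hb

theorem exists_vSharpPow_mem_ker_truncate (hp : IsNilpotent (p : R)) (Vs : P →ₗ[W] Dieu.BC σ P)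
    (hnil : Dieu.IsVNilpotent Vs) (n : ℕ) :
    ∃ N : ℕ, ∀ x : P, Dieu.vSharpPow Vs N x ∈
      (RingHom.ker (WittVector.truncate (p := p) (R := R) n)) • (⊤ : Submodule W (Dieu.BC (σ ^ (N + 1)) P)) := by
  obtain ⟨m, hm⟩ := exists_p_pow_mem_ker_truncate hp n
  obtain ⟨N, hN⟩ := exists_vSharpPow_mem_pow Vs hnil m
  refine ⟨N, fun x => Submodule.smul_mono_left ?_ (hN x)⟩
  refine (J1_pow_le m).trans (Ideal.mul_le_left.trans ?_)
  rw [Ideal.span_singleton_le_iff_mem]
  exact hm

end GrothLib.DispRigid
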