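import Groth.Prelude.Def_Dieu
import Groth.Agent.Lib.DispRigid.Witt
import Groth.Agent.Lib.DispRigid.Rank
import Groth.Agent.Lib.DispRigid.BCKer
import Groth.Agent.S7753
import Mathlib

/-!
# Level one conditions for Dieudonné modules over perfect rings
-/

universe u v

namespace GrothLib.DispRigid

open TensorProduct

/-- clearing denominators in `κ(Q) ⊗ N` -/
theorem exists_denom {R : Type u} [CommRing R] {N : Type v} [AddCommGroup N] [Module R N] (Q : PrimeSpectrum R)
    (z : Q.asIdeal.ResidueField ⊗[R] N) :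
    ∃ s ∉ Q.asIdeal, ∃ y, algebraMap R Q.asIdeal.ResidueField s • z = (1 : Q.asIdeal.ResidueField) ⊗ₜ y := by
  let κ := Q.asIdeal.ResidueField
  induction z using TensorProduct.induction_on with
  | zero => exact ⟨1, (Ideal.ne_top_iff_one _).1 Q.isPrime.ne_top, 0, by rw [smul_zero, TensorProduct.tmul_zero]⟩
  | tmul c y =>
    obtain ⟨a, b, hb, rfl⟩ := IsFractionRing.div_surjective (R ⧸ Q.asIdeal) c
    obtain ⟨a, rfl⟩ := Ideal.Quotient.mk_surjective a
    obtain ⟨b, rfl⟩ := Ideal.Quotient.mk_surjective b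
    have hb' : b ∉ Q.asIdeal := fun h => nonZeroDivisors.ne_zero hb (Ideal.Quotient.eq_zero_iff_mem.2 h)
    refine ⟨b, hb', a • y, ?_⟩
    rw [TensorProduct.smul_tmul', TensorProduct.tmul_smul, TensorProduct.smul_tmul']
    refine congrArg (· ⊗ₜ[R] y) ?_
    rw [smul_eq_mul, Algebra.smul_def, mul_one, IsScalarTower.algebraMap_apply R (R ⧸ Q.asIdeal) κ,
      IsScalarTower.algebraMap_apply R (R ⧸ Q.asIdeal) κ, Ideal.Quotient.algebraMap_eq]
    refine mul_div_cancel₀ _ fun h => hb' ?_
    exact Ideal.Quotient.eq_zero_iff_mem.1 ((IsFractionRing.injective (R ⧸ Q.asIdeal) κ) (h.trans (map_zero _).symm))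
  | add z₁ z₂ h₁ h₂ =>
    obtain ⟨s₁, hs₁, y₁, e₁⟩ := h₁
    obtain ⟨s₂, hs₂, y₂, e₂⟩ := h₂
    refine ⟨s₁ * s₂, fun h => (Q.isPrime.mem_or_mem h).elim hs₁ hs₂, s₂ • y₁ + s₁ • y₂, ?_⟩
    rw [smul_add, TensorProduct.tmul_add, TensorProduct.tmul_smul, TensorProduct.tmul_smul, ← e₁, ← e₂,
      ← algebraMap_smul κ s₂, ← algebraMap_smul κ s₁, smul_smul, smul_smul, map_mul, mul_comm (algebraMap R κ s₁)]

/-- for `N` finite projective, what dies in `κ(Q) ⊗ N` lies in `Q N` -/
theorem mem_smul_of_tmul_eq_zero {R : Type u} [CommRing R] {Mb : Type v} [AddCommGroup Mb] [Module R Mb]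
    [Module.Finite R Mb] [Module.Projective R Mb] (Q : PrimeSpectrum R) {w : Mb}
    (hw : (1 : Q.asIdeal.ResidueField) ⊗ₜ[R] w = 0) : w ∈ Q.asIdeal • (⊤ : Submodule R Mb) := by
  let κ := Q.asIdeal.ResidueField
  obtain ⟨n, a, b, hab⟩ := Module.Finite.exists_comp_eq_id_of_projective R Mb
  rw [show w = a (b (w)) from (LinearMap.congr_fun hab.2.2 _).symm, pi_eq_sum_univ' (b (w)), map_sum]
  refine Submodule.sum_mem _ fun j _ => ?_
  rw [map_smul]
  refine Submodule.smul_mem_smul ?_ Submodule.mem_top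
  have h := congrArg (fun t => TensorProduct.AlgebraTensorModule.rid R κ κ (((LinearMap.proj j).comp b).baseChange κ t)) hw
  simp only [LinearMap.baseChange_tmul, TensorProduct.AlgebraTensorModule.rid_tmul, map_zero] at h
  rw [Algebra.smul_def, mul_one] at h
  exact Ideal.algebraMap_residueField_eq_zero.1 h

variable {p : ℕ} [Fact p.Prime] {k : Type u} [CommRing k] [CharP k p] [PerfectRing k p]

local notation "W" => WittVector p k
local notation "pI" => Ideal.span {(p : WittVector p k)}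
set_option quotPrecheck false in
local notation "σi" => ((WittVector.frobeniusEquiv p k).symm : WittVector p k →+* WittVector p k)

theorem mul_p_coeff_eq_verschiebung (c : W) (i : ℕ) : (c * (p : W)).coeff (i + 1) = c.coeff i ^ p := by
  rw [← WittVector.verschiebung_frobenius, WittVector.verschiebung_coeff_succ, WittVector.coeff_frobenius_charP]

theorem eq_zero_of_mul_p {c : W} (h : c * (p : W) = 0) : c = 0 := by
  rw [← WittVector.verschiebung_frobenius] at h
  have h2 : WittVector.frobenius c = 0 := WittVector.verschiebung_injective p k (h.trans (map_zero _).symm)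
  exact (WittVector.frobenius_bijective p k).1 (h2.trans (map_zero _).symm)

theorem mem_WK_of_p_mul_mem {Pk : Ideal k} (hPk : Pk.IsRadical) {c : W} (h : c * (p : W) ∈ WK p Pk) : c ∈ WK p Pk :=
  mem_WK.2 fun i => hPk ⟨p, by rw [← mul_p_coeff_eq_verschiebung]; exact mem_WK.1 h (i + 1)⟩

theorem sub_teichmuller_mem (a : W) : a - WittVector.teichmuller p (a.coeff 0) ∈ pI := by
  obtain ⟨u, hu⟩ := (WittVector.frobenius_bijective p k).2 (a.shift 1)
  have h : a - WittVector.teichmuller p (a.coeff 0) = WittVector.verschiebung (a.shift 1) := by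
    rw [sub_eq_iff_eq_add, add_comm]
    exact eq_teich_add a
  rw [h, ← hu, WittVector.verschiebung_frobenius]
  exact Ideal.mem_span_singleton'.2 ⟨u, rfl⟩

theorem symm_coeff_zero_pow (a : W) : (σi a).coeff 0 ^ p = a.coeff 0 := by
  rw [← WittVector.coeff_frobenius_charP]
  exact congrArg (fun y => y.coeff 0) ((WittVector.frobeniusEquiv p k).apply_symm_apply a)

section

variable {M : Type v} [AddCommGroup M] [Module (WittVector p k) M]
variable {I : Ideal (WittVector p k)} (hI : I ≤ Ideal.span {(p : WittVector p k) ^ 2})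
variable {m : ℕ} (ι : M →ₗ[WittVector p k] Fin m → WittVector p k ⧸ I)
  (π : (Fin m → WittVector p k ⧸ I) →ₗ[WittVector p k] M) (hπ : π.comp ι = LinearMap.id)

include hπ in
theorem finite_of_retract : Module.Finite W M :=
  Module.Finite.of_surjective π fun x => ⟨ι x, LinearMap.congr_fun hπ x⟩

include hπ in
theorem exists_coords (z : M) : ∃ c : Fin m → W, (∀ j, Ideal.Quotient.mk I (c j) = ι z j) ∧
    z = ∑ j, c j • π (Pi.single j 1) := by
  choose c hc using fun j => Ideal.Quotient.mk_surjective (ι z j)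
  refine ⟨c, hc, ?_⟩
  conv_lhs => rw [show z = π (ι z) from (LinearMap.congr_fun hπ z).symm, pi_eq_sum_univ' (ι z), map_sum]
  refine Finset.sum_congr rfl fun j _ => ?_
  rw [← map_smul]
  refine congrArg π ?_
  rw [← hc j]
  ext i
  rw [Pi.smul_apply, Pi.smul_apply, smul_eq_mul, Algebra.smul_def]
  rfl

include hI hπ in
theorem mem_p_smul_of_p_smul_eq_zero {z : M} (hz : (p : W) • z = 0) : z ∈ pI • (⊤ : Submodule W M) := by
  obtain ⟨c, hc, hz'⟩ := exists_coords ι π hπ z
  rw [hz']
  refine Submodule.sum_mem _ fun j _ => Submodule.smul_mem_smul ?_ Submodule.mem_top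
  have h1 : Ideal.Quotient.mk I (c j * (p : W)) = 0 := by
    rw [map_mul, hc, mul_comm, ← Ideal.Quotient.algebraMap_eq, ← Algebra.smul_def]
    have := congrFun ((map_smul ι (p : W) z).symm.trans (by rw [hz, map_zero])) j
    exact this
  obtain ⟨e, he⟩ := Ideal.mem_span_singleton'.1 (hI (Ideal.Quotient.eq_zero_iff_mem.1 h1))
  have h2 : (c j - e * (p : W)) * (p : W) = 0 := by rw [sub_mul, ← he]; ring
  rw [sub_eq_zero.1 (eq_zero_of_mul_p h2)]
  exact Ideal.mem_span_singleton'.2 ⟨e, rfl⟩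

include hI hπ in
theorem mem_of_p_smul_mem (Pk : Ideal k) (hPk : Pk.IsRadical) {z : M}
    (hz : (p : W) • z ∈ WK p Pk • (⊤ : Submodule W M)) :
    z ∈ WK p Pk • (⊤ : Submodule W M) ⊔ pI • (⊤ : Submodule W M) := by
  obtain ⟨c, hc, hz'⟩ := exists_coords ι π hπ z
  rw [hz', ← Submodule.sup_smul]
  refine Submodule.sum_mem _ fun j _ => Submodule.smul_mem_smul ?_ Submodule.mem_top
  have key : ∀ y ∈ WK p Pk • (⊤ : Submodule W M), ∃ a ∈ WK p Pk, Ideal.Quotient.mk I a = ι y j := by
    intro y hy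
    refine Submodule.smul_induction_on hy (fun a ha t _ => ?_) (fun x y hx hy => ?_)
    · obtain ⟨b, hb⟩ := Ideal.Quotient.mk_surjective (ι t j)
      refine ⟨a * b, Ideal.mul_mem_right _ _ ha, ?_⟩
      rw [map_mul, hb, map_smul, Pi.smul_apply, Algebra.smul_def]
      rfl
    · obtain ⟨a, ha, ha'⟩ := hx
      obtain ⟨b, hb, hb'⟩ := hy
      exact ⟨a + b, add_mem ha hb, by rw [map_add, ha', hb', map_add, Pi.add_apply]⟩
  obtain ⟨a, ha, ha'⟩ := key _ hz
  rw [map_smul, Pi.smul_apply, Algebra.smul_def, ← hc j, Ideal.Quotient.algebraMap_eq, ← map_mul, Ideal.Quotient.eq] at ha'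
  obtain ⟨e, he⟩ := Ideal.mem_span_singleton'.1 (hI ha')
  have h2 : (c j + e * (p : W)) * (p : W) = a := by
    have : a = (p : W) * c j + e * (p : W) ^ 2 := by rw [he]; ring
    rw [this]; ring
  have h3 : c j + e * (p : W) ∈ WK p Pk := mem_WK_of_p_mul_mem hPk (h2.symm ▸ ha)
  have h4 : c j = (c j + e * (p : W)) + (-e) * (p : W) := by ring
  rw [h4]
  exact Submodule.add_mem_sup h3 (Ideal.mem_span_singleton'.2 ⟨_, rfl⟩)

variable (F : M →ₛₗ[(WittVector.frobenius : WittVector p k →+* WittVector p k)] M)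
  (V : M →ₛₗ[((WittVector.frobeniusEquiv p k).symm : WittVector p k →+* WittVector p k)] M)
  (hFV : ∀ m : M, F (V m) = (p : WittVector p k) • m) (hVF : ∀ m : M, V (F m) = (p : WittVector p k) • m)

include hI hπ hFV hVF in
/-- if `F x ∈ p M` then `x ∈ V M + p M`, and symmetrically -/
theorem comap_eq :
    (pI • (⊤ : Submodule W M)).comap F = Submodule.span W (Set.range V) ⊔ pI • (⊤ : Submodule W M) ∧
      (pI • (⊤ : Submodule W M)).comap V = Submodule.span W (Set.range F) ⊔ pI • (⊤ : Submodule W M) := by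
  have hp : ∀ x ∈ pI • (⊤ : Submodule W M), ∃ y, x = (p : W) • y := fun x hx => by
    rw [Submodule.ideal_span_singleton_smul] at hx
    obtain ⟨y, -, rfl⟩ := hx
    exact ⟨y, rfl⟩
  have hp' : ∀ y : M, (p : W) • y ∈ pI • (⊤ : Submodule W M) := fun y =>
    Submodule.smul_mem_smul (Ideal.mem_span_singleton_self _) Submodule.mem_top
  refine ⟨le_antisymm (fun x hx => ?_) (sup_le (Submodule.span_le.2 ?_) fun x hx => ?_),
    le_antisymm (fun x hx => ?_) (sup_le (Submodule.span_le.2 ?_) fun x hx => ?_)⟩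
  · obtain ⟨y, hy⟩ := hp _ hx
    rw [← hFV, ← sub_eq_zero, ← map_sub] at hy
    have h := congrArg V hy
    rw [hVF, map_zero] at h
    have := Submodule.add_mem_sup (Submodule.subset_span (s := Set.range V) ⟨y, rfl⟩)
      (mem_p_smul_of_p_smul_eq_zero hI ι π hπ h)
    simpa using this
  · rintro _ ⟨y, rfl⟩
    rw [SetLike.mem_coe, Submodule.mem_comap, hFV]; exact hp' y
  · obtain ⟨y, rfl⟩ := hp x hx
    rw [Submodule.mem_comap, map_smulₛₗ, map_natCast]; exact hp' _
  · obtain ⟨y, hy⟩ := hp _ hx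
    rw [← hVF, ← sub_eq_zero, ← map_sub] at hy
    have h := congrArg F hy
    rw [hFV, map_zero] at h
    have := Submodule.add_mem_sup (Submodule.subset_span (s := Set.range F) ⟨y, rfl⟩)
      (mem_p_smul_of_p_smul_eq_zero hI ι π hπ h)
    simpa using this
  · rintro _ ⟨y, rfl⟩
    rw [SetLike.mem_coe, Submodule.mem_comap, hVF]; exact hp' y
  · obtain ⟨y, rfl⟩ := hp x hx
    rw [Submodule.mem_comap, map_smulₛₗ, map_natCast]; exact hp' _

include hI hπ hFV hVF in
/-- the key exactness modulo a prime containing `p` -/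
theorem mem_range_F_sup (P : Ideal W) [P.IsPrime] (hP : pI ≤ P) {x : M} (hx : V x ∈ P • (⊤ : Submodule W M)) :
    ∃ m, x - F m ∈ P • (⊤ : Submodule W M) := by
  let c : W →+* k := WittVector.constantCoeff
  have hker : RingHom.ker c ≤ P := fun a ha => by
    have h := sub_teichmuller_mem a
    rw [show a.coeff 0 = 0 from ha, WittVector.teichmuller_zero, sub_zero] at h
    exact hP h
  let Pk := P.map c
  have hPk : Pk.IsPrime := Ideal.map_isPrime_of_surjective (WittVector.constantCoeff_surjective p) hker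
  have hcomap : Pk.comap c = P := by
    rw [Ideal.comap_map_of_surjective _ (WittVector.constantCoeff_surjective p), ← RingHom.ker_eq_comap_bot, sup_eq_left.2 hker]
  have hWK : WK p Pk ≤ P := fun a ha => by
    rw [← hcomap]
    exact mem_WK.1 ha 0
  have hsplit : ∀ a ∈ P, a ∈ WK p Pk ⊔ pI := fun a ha => by
    refine Submodule.mem_sup.2 ⟨WittVector.teichmuller p (a.coeff 0), mem_WK.2 fun i => ?_, _,
      sub_teichmuller_mem a, add_sub_cancel _ _⟩
    cases i with
    | zero => rw [WittVector.teichmuller_coeff_zero]; exact Ideal.mem_map_of_mem c ha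
    | succ i => rw [WittVector.teichmuller_coeff_pos p _ _ (Nat.succ_pos i)]; exact Pk.zero_mem
  have hx' : V x ∈ WK p Pk • (⊤ : Submodule W M) ⊔ pI • (⊤ : Submodule W M) := by
    rw [← Submodule.sup_smul]; exact Submodule.smul_mono_left hsplit hx
  obtain ⟨u, hu, w, hw, huw⟩ := Submodule.mem_sup.1 hx'
  rw [Submodule.ideal_span_singleton_smul] at hw
  obtain ⟨y, -, rfl⟩ := hw
  refine ⟨y, ?_⟩
  have hFu : F u ∈ WK p Pk • (⊤ : Submodule W M) := by
    refine Submodule.smul_induction_on hu (fun a ha t _ => ?_) (fun a b ha hb => ?_)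
    · rw [map_smulₛₗ]
      refine Submodule.smul_mem_smul (mem_WK.2 fun i => ?_) Submodule.mem_top
      rw [WittVector.coeff_frobenius_charP]
      exact Pk.pow_mem_of_mem (mem_WK.1 ha i) p (Fact.out : p.Prime).pos
    · rw [map_add]; exact add_mem ha hb
  have h2 : (p : W) • (x - F y) = F u := by
    rw [smul_sub, ← hFV x, ← huw, map_add, DistribSMul.toLinearMap_apply, map_smulₛₗ, map_natCast, add_sub_cancel_right]
  have h3 : WK p Pk • (⊤ : Submodule W M) ⊔ pI • (⊤ : Submodule W M) ≤ P • (⊤ : Submodule W M) :=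
    sup_le (Submodule.smul_mono_left hWK) (Submodule.smul_mono_left hP)
  exact h3 (mem_of_p_smul_mem hI ι π hπ Pk hPk.isRadical (h2.symm ▸ hFu))

include hI hπ in
theorem projective_mod_p :
    Module.Projective (W ⧸ pI) (M ⧸ (pI • (⊤ : Submodule W M))) := by
  let R := W ⧸ pI
  let Mb := M ⧸ (pI • (⊤ : Submodule W M))
  have hIp : I ≤ pI := hI.trans (by rw [Ideal.span_singleton_le_iff_mem, pow_two]; exact Ideal.mul_mem_left _ _ (Ideal.mem_span_singleton_self _))
  let f : (Fin m → W ⧸ I) →ₗ[W] (Fin m → R) :=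
    LinearMap.pi fun j => (Submodule.factor hIp).comp (LinearMap.proj j)
  let g : (Fin m → R) →ₗ[R] Mb :=
    Fintype.linearCombination R (fun j => (pI • (⊤ : Submodule W M)).mkQ (π (Pi.single j 1)))
  have hle : pI • (⊤ : Submodule W M) ≤ LinearMap.ker (f.comp ι) := by
    intro x hx
    refine Submodule.smul_induction_on hx (fun a ha t _ => ?_) (fun a b ha hb => ?_)
    · rw [LinearMap.mem_ker, map_smul]
      funext j
      rw [Pi.smul_apply, Algebra.smul_def, Ideal.Quotient.algebraMap_eq, Ideal.Quotient.eq_zero_iff_mem.2 ha, zero_mul]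
      rfl
    · exact add_mem ha hb
  let s : Mb →ₗ[R] (Fin m → R) :=
    LinearMap.extendScalarsOfSurjective (R := W) Ideal.Quotient.mk_surjective ((pI • (⊤ : Submodule W M)).liftQ (f.comp ι) hle)
  refine Module.Projective.of_split s g (LinearMap.ext fun z => ?_)
  obtain ⟨x, rfl⟩ := Submodule.Quotient.mk_surjective _ z
  obtain ⟨c, hc, hx⟩ := exists_coords ι π hπ x
  show g (f (ι x)) = Submodule.Quotient.mk x
  rw [Fintype.linearCombination_apply]
  conv_rhs => rw [hx, ← Submodule.mkQ_apply, map_sum]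
  refine Finset.sum_congr rfl fun j _ => ?_
  show Submodule.factor hIp (ι x j) • _ = _
  rw [← hc j, map_smul]
  rfl

include hI hπ hFV hVF in
/-- `M / (V M + p M)` is projective over `W / p` -/
theorem projective_mod_V :
    Module.Projective (W ⧸ pI)
      ((M ⧸ (pI • (⊤ : Submodule W M))) ⧸
        Submodule.span (W ⧸ pI) (Set.range fun m : M => (pI • (⊤ : Submodule W M)).mkQ (V m))) := by
  let R := W ⧸ pI
  let q : W →+* R := Ideal.Quotient.mk pI
  let Mb := M ⧸ (pI • (⊤ : Submodule W M))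
  haveI := finite_of_retract ι π hπ
  haveI : Module.Finite R Mb := Module.Finite.of_restrictScalars_finite W R Mb
  haveI : Module.Projective R Mb := projective_mod_p hI ι π hπ
  have hτ : pI ≤ (pI).comap σi := by
    rw [Ideal.span_singleton_le_iff_mem, Ideal.mem_comap, map_natCast]
    exact Ideal.mem_span_singleton_self _
  let τ : R →+* R := Ideal.quotientMap pI σi hτ
  have hτsurj : Function.Surjective τ := fun r => by
    obtain ⟨a, rfl⟩ := Ideal.Quotient.mk_surjective r
    refine ⟨Ideal.Quotient.mk pI (WittVector.frobenius a), ?_⟩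
    rw [Ideal.quotientMap_mk]
    exact congrArg (Ideal.Quotient.mk pI) ((WittVector.frobeniusEquiv p k).symm_apply_apply a)
  have hVp : pI • (⊤ : Submodule W M) ≤ (pI • (⊤ : Submodule W M)).comap V := fun x hx => by
    rw [(comap_eq hI ι π hπ F V hFV hVF).2]; exact Submodule.mem_sup_right hx
  let Vb : Mb →ₛₗ[τ] Mb :=
    { toFun := fun z => Submodule.mapQ _ _ V hVp z
      map_add' := fun x y => map_add _ x y
      map_smul' := fun r z => by
        obtain ⟨a, rfl⟩ := Ideal.Quotient.mk_surjective r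
        obtain ⟨x, rfl⟩ := Submodule.Quotient.mk_surjective _ z
        show (Submodule.Quotient.mk (V (a • x)) : Mb) = _
        rw [map_smulₛₗ, Submodule.Quotient.mk_smul, Ideal.quotientMap_mk, Submodule.mapQ_apply]
        rfl }
  haveI : Module.Finite R (Dieu.BC τ Mb) := finite_BC τ
  haveI : Module.Projective R (Dieu.BC τ Mb) := projective_BC τ
  let d : Dieu.BC τ Mb →ₗ[R] Mb := Dieu.BC.lift τ Vb
  have hd : ∀ z, d (Dieu.BC.tmul τ 1 z) = Vb z := fun z => by rw [Dieu.BC.lift_tmul, one_smul]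
  have hrange : LinearMap.range d
      = Submodule.span R (Set.range fun m : M => (pI • (⊤ : Submodule W M)).mkQ (V m)) := by
    refine le_antisymm ?_ (Submodule.span_le.2 ?_)
    · rintro _ ⟨z, rfl⟩
      induction z using Dieu.BC.induction_on with
      | zero => rw [map_zero]; exact zero_mem _
      | tmul b y =>
        obtain ⟨x, rfl⟩ := Submodule.Quotient.mk_surjective _ y
        rw [Dieu.BC.lift_tmul]
        exact Submodule.smul_mem _ b (Submodule.subset_span ⟨x, rfl⟩)
      | add a b ha hb => rw [map_add]; exact add_mem ha hb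
    · rintro _ ⟨x, rfl⟩
      exact ⟨Dieu.BC.tmul τ 1 (Submodule.Quotient.mk x), hd _⟩
  suffices h : Module.Projective R (Mb ⧸ LinearMap.range d) by
    haveI := h
    exact Module.Projective.of_equiv (M := Mb ⧸ LinearMap.range d) (Submodule.quotEquivOfEq _ _ hrange)
  clear hrange
  refine (Groth.Agent.S7753.result R (Dieu.BC τ Mb) Mb d).2 fun Q z hz => ?_
  let κ := Q.asIdeal.ResidueField
  obtain ⟨s, hs, y, hy⟩ := exists_denom Q z
  have hdy : (1 : κ) ⊗ₜ[R] d y = 0 := by
    rw [← LinearMap.baseChange_tmul, ← hy, map_smul, LinearMap.mem_ker.1 hz, smul_zero]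
  have hzero : d y ∈ Q.asIdeal • (⊤ : Submodule R Mb) := mem_smul_of_tmul_eq_zero Q hdy
  -- lift to `W`
  obtain ⟨x', rfl⟩ := inOne_surjective τ hτsurj y
  obtain ⟨x, rfl⟩ := Submodule.Quotient.mk_surjective _ x'
  let P : Ideal W := Q.asIdeal.comap q
  have hpP : pI ≤ P := fun a ha => by
    show q a ∈ Q.asIdeal
    rw [Ideal.Quotient.eq_zero_iff_mem.2 ha]; exact Q.asIdeal.zero_mem
  have hlift : ∀ w ∈ Q.asIdeal • (⊤ : Submodule R Mb), ∃ u ∈ P • (⊤ : Submodule W M), Submodule.Quotient.mk u = w := by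
    intro w hw
    refine Submodule.smul_induction_on hw (fun r hr t _ => ?_) (fun a b ha hb => ?_)
    · obtain ⟨a, rfl⟩ := Ideal.Quotient.mk_surjective r
      obtain ⟨t, rfl⟩ := Submodule.Quotient.mk_surjective _ t
      exact ⟨a • t, Submodule.smul_mem_smul hr Submodule.mem_top, rfl⟩
    · obtain ⟨u, hu, rfl⟩ := ha
      obtain ⟨v, hv, rfl⟩ := hb
      exact ⟨u + v, add_mem hu hv, rfl⟩
  obtain ⟨u, hu, hu'⟩ := hlift (Vb (Submodule.Quotient.mk x)) (by rw [← hd]; exact hzero)
  have hVx : V x ∈ P • (⊤ : Submodule W M) := by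
    have h1 : u - V x ∈ pI • (⊤ : Submodule W M) := (Submodule.Quotient.eq _).1 hu'
    simpa using sub_mem hu (Submodule.smul_mono_left hpP h1)
  obtain ⟨m', hm'⟩ := mem_range_F_sup hI ι π hπ F V hFV hVF P hpP hVx
  -- conclude
  have hτQ : ∀ r ∈ Q.asIdeal, τ r ∈ Q.asIdeal := fun r hr => by
    obtain ⟨a, rfl⟩ := Ideal.Quotient.mk_surjective r
    refine Q.isPrime.mem_of_pow_mem p ?_
    show q (σi a) ^ p ∈ Q.asIdeal
    have h : (σi a) ^ p - a ∈ RingHom.ker (WittVector.constantCoeff : W →+* k) := by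
      show ((σi a) ^ p - a).coeff 0 = 0
      rw [← WittVector.constantCoeff_apply, map_sub, map_pow, WittVector.constantCoeff_apply,
        WittVector.constantCoeff_apply, symm_coeff_zero_pow, sub_self]
    have h' : (σi a) ^ p - a ∈ pI := by
      have h2 := sub_teichmuller_mem ((σi a) ^ p - a)
      rwa [show ((σi a) ^ p - a).coeff 0 = 0 from h, WittVector.teichmuller_zero, sub_zero] at h2
    rw [← map_pow, ← sub_add_cancel ((σi a) ^ p) a, map_add, Ideal.Quotient.eq_zero_iff_mem.2 h', zero_add]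
    exact hr
  have hzero' : ∀ t : M, t ∈ P • (⊤ : Submodule W M) →
      (1 : κ) ⊗ₜ[R] Dieu.BC.tmul τ 1 (Submodule.Quotient.mk t : Mb) = 0 := fun t ht => by
    refine Submodule.smul_induction_on ht (fun a ha t _ => ?_) (fun a b ha hb => ?_)
    · show (1 : κ) ⊗ₜ[R] Dieu.BC.tmul τ 1 (q a • (Submodule.Quotient.mk t : Mb)) = 0
      rw [← Dieu.BC.tmul_apply_eq, Dieu.BC.tmul_eq_smul_tmul_one, TensorProduct.tmul_smul, TensorProduct.smul_tmul',
        Algebra.smul_def, Ideal.algebraMap_residueField_eq_zero.2 (hτQ _ ha), zero_mul, TensorProduct.zero_tmul]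
    · rw [Submodule.Quotient.mk_add, Dieu.BC.tmul_add, TensorProduct.tmul_add, ha, hb, add_zero]
  have hkerF : Dieu.BC.tmul τ 1 (Submodule.Quotient.mk (F m') : Mb) ∈ LinearMap.ker d := by
    rw [LinearMap.mem_ker, hd]
    show (Submodule.Quotient.mk (V (F m')) : Mb) = 0
    rw [Submodule.Quotient.mk_eq_zero, hVF]
    exact Submodule.smul_mem_smul (Ideal.mem_span_singleton_self _) Submodule.mem_top
  have hy' : algebraMap R κ s • z = (LinearMap.ker d).subtype.baseChange κ ((1 : κ) ⊗ₜ ⟨_, hkerF⟩) := by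
    rw [hy, LinearMap.baseChange_tmul]
    show (1 : κ) ⊗ₜ[R] Dieu.BC.tmul τ 1 (Submodule.Quotient.mk x : Mb) = _
    rw [← sub_add_cancel x (F m'), Submodule.Quotient.mk_add, Dieu.BC.tmul_add, TensorProduct.tmul_add, hzero' _ hm', zero_add]
    rfl
  have hs' : algebraMap R κ s ≠ 0 := fun h => hs (Ideal.algebraMap_residueField_eq_zero.1 h)
  rw [← inv_smul_smul₀ hs' z, hy']
  exact Submodule.smul_mem _ _ (LinearMap.mem_range_self _ _)

end

end GrothLib.DispRigid
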