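import Groth.Prelude.Def_Disp2
import Groth.Agent.Lib.DispRigid.VSharp
import Mathlib

/-!
# The matrix criterion for nilpotence of a 3n-display with free normal decomposition
-/

universe u v w

namespace GrothLib.DispRigid

open W4c1extbt610

section Twisted

variable {A : Type u} [CommRing A] {n : Type w} [Fintype n] [DecidableEq n]

/-- the twisted product `B^{(p^{N-1})} ⋯ B^{(p)} B` -/
def twProd (p : ℕ) (B : Matrix n n A) (N : ℕ) : Matrix n n A :=
  ((List.range N).reverse.map fun i : ℕ => B.map fun x => x ^ p ^ i).prod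

theorem twProd_succ (p : ℕ) (B : Matrix n n A) (N : ℕ) :
    twProd p B (N + 1) = (B.map fun x => x ^ p ^ N) * twProd p B N := by
  simp [twProd, List.range_succ]

theorem twProd_succ' (p : ℕ) (φ : A →+* A) (hφ : ∀ x, φ x = x ^ p) (B : Matrix n n A) :
    ∀ N, twProd p B (N + 1) = (twProd p B N).map φ * B
  | 0 => by
    rw [twProd_succ]
    simp [twProd, Matrix.map_one]
  | N + 1 => by
    rw [twProd_succ p B (N + 1)]
    conv_lhs => rw [twProd_succ' p φ hφ B N, ← mul_assoc]
    rw [twProd_succ p B N, Matrix.map_mul]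
    congr 2
    ext i j
    simp only [Matrix.map_apply, hφ, pow_succ, pow_mul]

end Twisted

variable {p : ℕ} [Fact p.Prime] {R : Type u} [CommRing R]

local notation "W" => WittVector p R
local notation "σ" => (WittVector.frobenius : WittVector p R →+* WittVector p R)
local notation "Rp" => (R ⧸ Ideal.span {(p : R)})

/-- reduction of a Witt vector to `R / p R` -/
noncomputable def red : W →+* Rp :=
  (Ideal.Quotient.mk (Ideal.span {(p : R)})).comp WittVector.constantCoeff

theorem red_eq_zero_iff (a : W) : red a = 0 ↔ a ∈ IV p R ⊔ Ideal.span {(p : W)} := by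
  constructor
  · intro h
    obtain ⟨r, hr⟩ := Ideal.mem_span_singleton'.1 (Ideal.Quotient.eq_zero_iff_mem.1 h)
    obtain ⟨s, hs⟩ := WittVector.constantCoeff_surjective p r
    refine Submodule.mem_sup.2 ⟨a - s * p, ?_, s * p, Ideal.mem_span_singleton'.2 ⟨s, rfl⟩, sub_add_cancel _ _⟩
    have h0 : (a - s * (p : W)).coeff 0 = 0 := by
      rw [← WittVector.constantCoeff_apply, map_sub, map_mul, map_natCast, hs, hr, sub_self]
    rw [← eq_verschiebung_shift h0]
    exact verschiebung_mem_IV p R _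
  · intro h
    obtain ⟨u, hu, v, hv, rfl⟩ := Submodule.mem_sup.1 h
    obtain ⟨c, rfl⟩ := Ideal.mem_span_singleton'.1 hv
    have hu0 : (WittVector.constantCoeff : W →+* R) u = 0 := coeff_zero_eq_zero_of_mem_IV hu
    rw [red, RingHom.comp_apply, map_add, map_mul, map_natCast, hu0, zero_add, Ideal.Quotient.eq_zero_iff_mem]
    exact Ideal.mem_span_singleton'.2 ⟨_, rfl⟩

/-- the `p`-th power map of `R / p R` -/
noncomputable def frobRp : Rp →+* Rp where
  toFun x := x ^ p
  map_one' := one_pow _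
  map_mul' x y := mul_pow x y p
  map_zero' := zero_pow (Fact.out : p.Prime).ne_zero
  map_add' x y := by
    obtain ⟨r, hr⟩ := exists_add_pow_prime_eq (Fact.out : p.Prime) x y
    have hp : ((p : ℕ) : Rp) = 0 := by
      rw [← map_natCast (Ideal.Quotient.mk (Ideal.span {(p : R)}))]
      exact Ideal.Quotient.eq_zero_iff_mem.2 (Ideal.mem_span_singleton_self _)
    rw [hr, hp]; ring

theorem red_frobenius (a : W) : red (σ a) = red a ^ p := by
  have h := WittVector.ghostComponent_frobenius 0 a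
  have e0 : ∀ x : W, WittVector.ghostComponent 0 x = WittVector.constantCoeff x := fun x => by
    simp [WittVector.ghostComponent_apply, wittPolynomial_eq_sum_C_mul_X_pow]
  have h1 : WittVector.constantCoeff (σ a) = WittVector.constantCoeff a ^ p + (p : R) * a.coeff 1 := by
    rw [← e0, h, WittVector.ghostComponent_apply, wittPolynomial_eq_sum_C_mul_X_pow]
    simp [Finset.sum_range_succ]
  rw [red, RingHom.comp_apply, RingHom.comp_apply, h1, map_add, map_pow, map_mul,
    Ideal.Quotient.eq_zero_iff_mem.2 (Ideal.mem_span_singleton_self (p : R)), zero_mul, add_zero]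

variable {P : Type v} [AddCommGroup P] [Module (WittVector p R) P] {ι : Type w} [Fintype ι] [DecidableEq ι]

/-- coordinates on a twisted base change -/
noncomputable def bcCoord (e : Module.Basis ι W P) (g : W →+* W) (i : ι) : Dieu.BC g P →ₗ[W] W :=
  Dieu.BC.lift g ((Dieu.semilinearOfRingHom g).comp (e.coord i))

theorem bcCoord_tmul (e : Module.Basis ι W P) (g : W →+* W) (i : ι) (w : W) (x : P) :
    bcCoord e g i (Dieu.BC.tmul g w x) = w * g (e.repr x i) := by
  rw [bcCoord, Dieu.BC.lift_tmul]; rfl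

theorem sum_bcCoord (e : Module.Basis ι W P) (g : W →+* W) (z : Dieu.BC g P) :
    ∑ i, bcCoord e g i z • Dieu.BC.tmul g 1 (e i) = z := by
  induction z using Dieu.BC.induction_on with
  | zero => simp
  | tmul w x =>
    simp only [bcCoord_tmul, mul_smul, ← Finset.smul_sum]
    have : ∀ i, g (e.repr x i) • Dieu.BC.tmul g 1 (e i) = Dieu.BC.ι g P (e.repr x i • e i) := fun i => by
      rw [map_smulₛₗ]; rfl
    simp only [this, ← map_sum, e.sum_repr]
    rw [Dieu.BC.ι_apply, ← Dieu.BC.tmul_eq_smul_tmul_one]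
  | add a b ha hb => simp only [map_add, add_smul, Finset.sum_add_distrib, ha, hb]

theorem mem_J_smul_iff (e : Module.Basis ι W P) (g : W →+* W) (z : Dieu.BC g P) :
    z ∈ (IV p R ⊔ Ideal.span {(p : W)}) • (⊤ : Submodule W (Dieu.BC g P)) ↔ ∀ i, red (bcCoord e g i z) = 0 := by
  constructor
  · intro h i
    refine Submodule.smul_induction_on h (fun a ha t _ => ?_) (fun a b ha hb => ?_)
    · rw [map_smul, smul_eq_mul, map_mul, (red_eq_zero_iff a).2 ha, zero_mul]
    · rw [map_add, map_add, ha, hb, add_zero]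
  · intro h
    rw [← sum_bcCoord e g z]
    exact Submodule.sum_mem _ fun i _ => Submodule.smul_mem_smul ((red_eq_zero_iff _).1 (h i)) Submodule.mem_top

/-- the reduced matrix of `V^{(n+1)#}` -/
noncomputable def powMat (e : Module.Basis ι W P) (Vs : P →ₗ[W] Dieu.BC σ P) (n : ℕ) : Matrix ι ι Rp :=
  Matrix.of fun i m => red (bcCoord e (σ ^ (n + 1)) i (Dieu.vSharpPow Vs n (e m)))

theorem vNilpotent_iff (e : Module.Basis ι W P) (Vs : P →ₗ[W] Dieu.BC σ P) :
    Dieu.IsVNilpotent Vs ↔ ∃ n, powMat e Vs n = 0 := by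
  refine exists_congr fun n => ⟨fun h => ?_, fun h x => ?_⟩
  · ext i m
    exact (mem_J_smul_iff e _ _).1 (h (e m)) i
  · rw [← e.sum_repr x, map_sum]
    refine Submodule.sum_mem _ fun m _ => ?_
    rw [map_smul]
    refine Submodule.smul_mem _ _ ((mem_J_smul_iff e _ _).2 fun i => ?_)
    exact congrFun (congrFun h i) m

theorem powMat_zero (e : Module.Basis ι W P) (Vs : P →ₗ[W] Dieu.BC σ P) (i m : ι) :
    powMat e Vs 0 i m = red (bcCoord e σ i (Vs (e m))) := by
  rw [powMat, Matrix.of_apply, Dieu.vSharpPow_zero_apply]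
  generalize Vs (e m) = t
  induction t using Dieu.BC.induction_on with
  | zero => simp
  | tmul w x => rw [Dieu.BC.castHom_tmul, bcCoord_tmul, bcCoord_tmul, pow_one σ]
  | add a b ha hb => simp only [map_add, ha, hb]

theorem powMat_succ (e : Module.Basis ι W P) (Vs : P →ₗ[W] Dieu.BC σ P) (n : ℕ) :
    powMat e Vs (n + 1) = (powMat e Vs n).map frobRp * powMat e Vs 0 := by
  ext i m
  have key : ∀ w : Dieu.BC (σ ^ (n + 1)) P,
      bcCoord e (σ ^ (n + 1 + 1)) i (Dieu.BC.castHom (Dieu.comp_pow_eq_pow_succ σ (n + 1))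
        (Dieu.BC.push (σ ^ (n + 1)) σ w)) = σ (bcCoord e (σ ^ (n + 1)) i w) := fun w => by
    induction w using Dieu.BC.induction_on with
    | zero => simp
    | tmul a x =>
      rw [Dieu.BC.push_tmul, Dieu.BC.castHom_tmul, bcCoord_tmul, bcCoord_tmul, map_mul]
      refine congrArg (σ a * ·) ?_
      exact (RingHom.congr_fun (Dieu.comp_pow_eq_pow_succ σ (n + 1)) _).symm
    | add a b ha hb => simp only [map_add, ha, hb]
  rw [Matrix.mul_apply]
  simp only [powMat_zero]
  rw [powMat, Matrix.of_apply, Dieu.vSharpPow_succ_apply]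
  conv_lhs => rw [← sum_bcCoord e σ (Vs (e m))]
  rw [map_sum, map_sum, map_sum, map_sum, map_sum]
  refine Finset.sum_congr rfl fun j _ => ?_
  rw [map_smul, map_smul, map_smul, map_smul, Dieu.BC.map_tmul, Dieu.BC.lift_tmul, one_smul, key, smul_eq_mul, map_mul,
    Matrix.map_apply, mul_comm]
  exact congrArg (· * _) (red_frobenius _)

section Block

variable {A : Type u} [CommRing A] {ιT ιL : Type w} [Fintype ιT] [Fintype ιL] [DecidableEq ιT] [DecidableEq ιL]

theorem exists_eq_zero_iff (p : ℕ) (φ : A →+* A) (hφ : ∀ x, φ x = x ^ p)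
    (G : ℕ → Matrix (ιT ⊕ ιL) (ιT ⊕ ιL) A) (hrec : ∀ n, G (n + 1) = (G n).map φ * G 0)
    (hT : ∀ i m, G 0 (Sum.inl i) m = 0) :
    (∃ n, G n = 0) ↔ ∃ N, 0 < N ∧ twProd p (Matrix.of fun k l => G 0 (Sum.inr k) (Sum.inr l)) N = 0 := by
  let B : Matrix ιL ιL A := Matrix.of fun k l => G 0 (Sum.inr k) (Sum.inr l)
  have hTn : ∀ n i m, G n (Sum.inl i) m = 0 := fun n => by
    induction n with
    | zero => exact hT
    | succ n ih => intro i m; simp [hrec, Matrix.mul_apply, ih]
  have hmul : ∀ n i m, G (n + 1) i m = ∑ l : ιL, φ (G n i (Sum.inr l)) * G 0 (Sum.inr l) m := fun n i m => by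
    simp [hrec n, Matrix.mul_apply, hT]
  have hLL : ∀ n, (Matrix.of fun k l => G n (Sum.inr k) (Sum.inr l)) = twProd p B (n + 1) := fun n => by
    induction n with
    | zero =>
      rw [twProd_succ, twProd]
      ext k l
      simp [B]
    | succ n ih =>
      rw [twProd_succ' p φ hφ B (n + 1), ← ih]
      ext k l
      simp [hmul, Matrix.mul_apply, B]
  constructor
  · rintro ⟨n, hn⟩
    refine ⟨n + 1, n.succ_pos, ?_⟩
    rw [← hLL, hn]
    rfl
  · rintro ⟨N, hN, h⟩
    obtain ⟨n, rfl⟩ : ∃ n, N = n + 1 := ⟨N - 1, by omega⟩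
    refine ⟨n + 1, Matrix.ext fun i m => ?_⟩
    rcases i with i | k
    · exact hTn _ _ _
    · rw [hmul]
      refine Finset.sum_eq_zero fun l _ => ?_
      have h' := congrFun (congrFun ((hLL n).trans h) k) l
      rw [show G n (Sum.inr k) (Sum.inr l) = 0 from h', map_zero, zero_mul]

end Block

theorem isDisplay_iff_twProd (hp : IsNilpotent (p : R)) (D : Display3n p R P)
    (L T : Submodule W P) (hLT : IsCompl L T) (hLQ : L ≤ D.Q)
    {ιT ιL : Type w} [Fintype ιT] [Fintype ιL] [DecidableEq ιT] [DecidableEq ιL]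
    (bT : Module.Basis ιT W T) (bL : Module.Basis ιL W L)
    (α β : Matrix (ιT ⊕ ιL) (ιT ⊕ ιL) W) (hαβ : α * β = 1)
    (hF : ∀ j : ιT, D.F (bT j : P) =
      Finset.univ.sum fun i : ιT ⊕ ιL => α i (Sum.inl j) • Sum.elim (fun a : ιT => (bT a : P)) (fun a : ιL => (bL a : P)) i)
    (hV : ∀ k : ιL, D.Vinv ⟨(bL k : P), hLQ (bL k).2⟩ =
      Finset.univ.sum fun i : ιT ⊕ ιL => α i (Sum.inr k) • Sum.elim (fun a : ιT => (bT a : P)) (fun a : ιL => (bL a : P)) i) :
    Dieu.IsDisplay D ↔ ∃ N : ℕ, 0 < N ∧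
      twProd p (Matrix.of fun k l : ιL => red (β (Sum.inr k) (Sum.inr l))) N = 0 := by
  obtain ⟨Vs, hVs⟩ := exists_vSharp hp D
  let e : Module.Basis (ιT ⊕ ιL) W P := (bT.prod bL).map (Submodule.prodEquivOfIsCompl T L hLT.symm)
  have he : ⇑e = Sum.elim (fun a : ιT => (bT a : P)) (fun a : ιL => (bL a : P)) := by
    funext i; rcases i with i | i <;> simp [e]
  let f : ιT ⊕ ιL → Dieu.BC σ P := Sum.elim (fun j => (p : W) • Dieu.BC.tmul σ 1 (bT j : P)) (fun k => Dieu.BC.tmul σ 1 (bL k : P))
  have hv : ∀ j, Vs (∑ i, α i j • e i) = f j := fun j => by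
    rcases j with j | k
    · rw [he, ← hF, ← one_smul W (D.F _), hVs.app_smul_F]; rfl
    · rw [he, ← hV, ← one_smul W (D.Vinv _), hVs.app_smul_Vinv]; rfl
  have hVe : ∀ m, Vs (e m) = ∑ j, β j m • f j := fun m => by
    have h : e m = ∑ j, β j m • ∑ i, α i j • e i := by
      simp only [Finset.smul_sum, smul_smul]
      rw [Finset.sum_comm]
      simp only [← Finset.sum_smul]
      conv_rhs => enter [2, i, 1]; rw [show ∑ j, β j m * α i j = (α * β) i m from
        (Finset.sum_congr rfl fun j _ => mul_comm _ _).trans (Matrix.mul_apply).symm, hαβ]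
      simp [Matrix.one_apply]
    conv_lhs => rw [h, map_sum]
    exact Finset.sum_congr rfl fun j _ => by rw [map_smul, hv]
  have hG : ∀ i m, powMat e Vs 0 i m = Sum.elim (fun _ : ιT => 0) (fun k => red (β (Sum.inr k) m)) i := fun i m => by
    rw [powMat_zero, hVe, map_sum, map_sum, Fintype.sum_eq_single i]
    · rcases i with i | k
      · simp only [f, Sum.elim_inl, map_smul, smul_eq_mul, map_mul]
        rw [(red_eq_zero_iff (p : W)).2 (Ideal.mem_sup_right (Ideal.mem_span_singleton_self _))]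
        simp
      · simp only [f, Sum.elim_inr, map_smul, smul_eq_mul]
        rw [bcCoord_tmul, show (bL k : P) = e (Sum.inr k) by rw [he]; rfl, e.repr_self, Finsupp.single_eq_same, map_one, mul_one, mul_one]
    · intro j hj
      rcases j with j | k
      · simp only [f, Sum.elim_inl, map_smul, smul_eq_mul]
        rw [bcCoord_tmul, show (bT j : P) = e (Sum.inl j) by rw [he]; rfl, e.repr_self, Finsupp.single_eq_of_ne hj.symm]
        simp
      · simp only [f, Sum.elim_inr, map_smul, smul_eq_mul]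
        rw [bcCoord_tmul, show (bL k : P) = e (Sum.inr k) by rw [he]; rfl, e.repr_self, Finsupp.single_eq_of_ne hj.symm]
        simp
  have key := exists_eq_zero_iff p (frobRp (p := p) (R := R)) (fun _ => rfl) (powMat e Vs) (powMat_succ e Vs)
    (fun i m => hG _ m)
  rw [show (Matrix.of fun k l : ιL => red (β (Sum.inr k) (Sum.inr l)))
    = Matrix.of fun k l => powMat e Vs 0 (Sum.inr k) (Sum.inr l) from Matrix.ext fun k l => (hG (Sum.inr k) (Sum.inr l)).symm,
    ← key, ← vNilpotent_iff]
  exact ⟨fun ⟨Vs', h', hn⟩ => vSharp_unique D hVs h' ▸ hn, fun hn => ⟨Vs, hVs, hn⟩⟩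

end GrothLib.DispRigid
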